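import Mathlib
import Cfsg.Agent.Helper6.Chev.TablesBN
import Cfsg.Agent.Helper6.Chev.BNPairDef
import Cfsg.Agent.Helper6.Chev.BruhatNF2
import Cfsg.Agent.Helper6.Chev.TablesW0
import Cfsg.Agent.Helper2.BN.Parabolic
import Cfsg.Agent.Helper2.CentRoot

set_option autoImplicit false
set_option linter.unusedSectionVars false
set_option linter.unusedSimpArgs false
set_option linter.unusedVariables false

/-! Automorphisms of the tabulated Chevalley groups: basic notation in the subtype `↥(D.group F)`. -/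

namespace Cfsg.Agent.Helper2.Aut

open Cfsg.Lie Cfsg.Agent.Helper6 Cfsg.Agent.Helper2.BN

variable {D : ChevalleyDatum} {F : Type*} [Field F]

theorem xU_eq_one_of_not_lt (hB : BasicOK D) {r : ℕ} (hr : ¬ r < D.nroots) (t : F) :
    xU hB r t = 1 := by
  apply Units.ext
  rw [xU_val, Units.val_one]
  unfold ChevalleyDatum.x
  rw [dif_neg hr]

theorem xU_mem_group' (hB : BasicOK D) (r : ℕ) (t : F) : xU hB r t ∈ D.group F := by
  by_cases hr : r < D.nroots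
  · exact xU_mem_group hB hr t
  · rw [xU_eq_one_of_not_lt hB hr]; exact Subgroup.one_mem _

/-- the root element `x_r(t)` in the Chevalley group -/
def xG (hB : BasicOK D) (r : ℕ) (t : F) : ↥(D.group F) := ⟨xU hB r t, xU_mem_group' hB r t⟩

@[simp] theorem xG_coe (hB : BasicOK D) (r : ℕ) (t : F) :
    ((xG hB r t : ↥(D.group F)) : GL D.Idx F) = xU hB r t := rfl

theorem xG_mul (hB : BasicOK D) (r : ℕ) (t u : F) : xG hB r t * xG hB r u = xG hB r (t + u) :=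
  Subtype.ext (by simp [xU_mul])

theorem xG_inv (hB : BasicOK D) (r : ℕ) (t : F) : (xG hB r t)⁻¹ = xG hB r (-t) :=
  Subtype.ext (by simp [xU_inv])

theorem xG_zero (hB : BasicOK D) (r : ℕ) : xG hB r (0 : F) = 1 :=
  Subtype.ext (by simp [xU_zero])

theorem xG_inj (Δ : BNData D F) {r : ℕ} (hr : r < D.nroots) {a b : F}
    (h : xG Δ.hB r a = xG Δ.hB r b) : a = b :=
  Cfsg.Agent.Helper2.HRoot.xU_inj' Δ hr (congrArg Subtype.val h)

theorem xG_eq_one_iff (Δ : BNData D F) {r : ℕ} (hr : r < D.nroots) {a : F} :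
    xG Δ.hB r a = 1 ↔ a = 0 := by
  constructor
  · intro h
    rw [← xG_zero Δ.hB r] at h
    exact xG_inj Δ hr h
  · rintro rfl; exact xG_zero _ _

/-- the element of `G` with a given matrix -/
theorem eq_xG_of_val (hB : BasicOK D) {g : ↥(D.group F)} {r : ℕ} {t : F}
    (h : ((g : GL D.Idx F) : Matrix D.Idx D.Idx F) = D.x F r t) : g = xG hB r t :=
  Subtype.ext (Units.ext (by rw [h]; rfl))

/-- the subgroups of `G` -/
def UG (D : ChevalleyDatum) (F : Type*) [Field F] : Subgroup ↥(D.group F) :=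
  (D.posUnipotent F).subgroupOf (D.group F)

def VG (D : ChevalleyDatum) (F : Type*) [Field F] : Subgroup ↥(D.group F) :=
  (D.negUnipotent F).subgroupOf (D.group F)

def HG (D : ChevalleyDatum) (F : Type*) [Field F] : Subgroup ↥(D.group F) :=
  (D.diagonalSubgroup F).subgroupOf (D.group F)

def XG (D : ChevalleyDatum) (F : Type*) [Field F] (r : ℕ) : Subgroup ↥(D.group F) :=
  (D.rootSubgroup F r).subgroupOf (D.group F)

theorem mem_UG {g : ↥(D.group F)} : g ∈ UG D F ↔ (g : GL D.Idx F) ∈ D.posUnipotent F :=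
  Subgroup.mem_subgroupOf

theorem mem_VG {g : ↥(D.group F)} : g ∈ VG D F ↔ (g : GL D.Idx F) ∈ D.negUnipotent F :=
  Subgroup.mem_subgroupOf

theorem mem_HG {g : ↥(D.group F)} : g ∈ HG D F ↔ (g : GL D.Idx F) ∈ D.diagonalSubgroup F :=
  Subgroup.mem_subgroupOf

theorem mem_XG (hB : BasicOK D) {r : ℕ} {g : ↥(D.group F)} :
    g ∈ XG D F r ↔ ∃ t : F, g = xG hB r t := by
  unfold XG
  rw [Subgroup.mem_subgroupOf, mem_rootSubgroup_iff hB]
  constructor
  · rintro ⟨t, ht⟩; exact ⟨t, Subtype.ext ht⟩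
  · rintro ⟨t, rfl⟩; exact ⟨t, rfl⟩

theorem xG_mem_XG (hB : BasicOK D) (r : ℕ) (t : F) : xG hB r t ∈ XG D F r :=
  (mem_XG hB).2 ⟨t, rfl⟩

section withData

variable (Δ : BNData D F)
include Δ

theorem HG_eq_H : HG D F = H Δ.bnPair := by
  ext g
  rw [mem_HG, Δ.mem_H_iff_val]

theorem UG_le_B : UG D F ≤ Δ.bnPair.B := by
  intro g hg
  rw [Δ.mem_B_iff_val]
  exact Δ.posUnipotent_le_borel (mem_UG.1 hg)

theorem HG_le_B : HG D F ≤ Δ.bnPair.B := by
  intro g hg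
  rw [Δ.mem_B_iff_val]
  exact Δ.diag_le_borel (mem_HG.1 hg)

theorem xG_pos_mem {r : ℕ} (hr : D.IsPosRoot r) (t : F) : xG Δ.hB r t ∈ UG D F :=
  mem_UG.2 (Δ.xU_pos_mem hr t)

theorem xG_neg_mem {r : ℕ} (hr : D.IsNegRoot r) (t : F) : xG Δ.hB r t ∈ VG D F :=
  mem_VG.2 (Δ.xU_neg_mem hr t)

theorem isPos_simple {i : ℕ} (hi : i < D.rank) : D.IsPosRoot (D.simple i) :=
  (Δ.hsign' _ (Δ.hAll i hi).hS.1).2 (Δ.hpN i hi)

theorem simple_lt {i : ℕ} (hi : i < D.rank) : D.simple i < D.nroots := (Δ.hAll i hi).hS.1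

theorem neg_simple_lt {i : ℕ} (hi : i < D.rank) : D.neg (D.simple i) < D.nroots :=
  (Δ.hB.neg _ (simple_lt Δ hi)).1

theorem isNeg_neg_simple {i : ℕ} (hi : i < D.rank) : D.IsNegRoot (D.neg (D.simple i)) :=
  ((Δ.hsign _ (neg_simple_lt Δ hi)).2).2 (Δ.hnp hi)

/-- `B ∩ V = 1` in `G` -/
theorem B_inf_VG : Δ.bnPair.B ⊓ VG D F = ⊥ := by
  rw [eq_bot_iff]
  intro g hg
  rw [Subgroup.mem_inf] at hg
  have h1 : (g : GL D.Idx F) ∈ D.borelSubgroup F ⊓ D.negUnipotent F :=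
    Subgroup.mem_inf.2 ⟨Δ.mem_B_iff_val.1 hg.1, mem_VG.1 hg.2⟩
  rw [borel_inf_negUnipotent Δ.hB Δ.hH Δ.good2, Subgroup.mem_bot] at h1
  rw [Subgroup.mem_bot]
  exact Subtype.ext h1

theorem eq_one_of_mem_B_of_mem_VG {g : ↥(D.group F)} (h1 : g ∈ Δ.bnPair.B) (h2 : g ∈ VG D F) :
    g = 1 := by
  have : g ∈ Δ.bnPair.B ⊓ VG D F := Subgroup.mem_inf.2 ⟨h1, h2⟩
  rw [B_inf_VG Δ, Subgroup.mem_bot] at this
  exact this

/-- a positive root element lying in `V` is trivial -/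
theorem eq_zero_of_xG_pos_mem_VG {r : ℕ} (hr : D.IsPosRoot r) {a : F}
    (h : xG Δ.hB r a ∈ VG D F) : a = 0 := by
  have h1 := eq_one_of_mem_B_of_mem_VG Δ (UG_le_B Δ (xG_pos_mem Δ hr a)) h
  exact (xG_eq_one_iff Δ hr.1).1 h1

/-- a positive root element lying in `V` is trivial (in `GL`) -/
theorem eq_zero_of_xU_pos_mem_negUnipotent {r : ℕ} (hr : D.IsPosRoot r) {a : F}
    (h : xU Δ.hB r a ∈ D.negUnipotent F) : a = 0 := by
  have h1 : xU Δ.hB r a ∈ D.borelSubgroup F ⊓ D.negUnipotent F :=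
    Subgroup.mem_inf.2 ⟨Δ.posUnipotent_le_borel (Δ.xU_pos_mem hr a), h⟩
  rw [borel_inf_negUnipotent Δ.hB Δ.hH Δ.good2, Subgroup.mem_bot] at h1
  have e : xU Δ.hB r a = xU Δ.hB r 0 := by rw [h1, xU_zero]
  exact Cfsg.Agent.Helper2.HRoot.xU_inj' Δ hr.1 e

theorem simple_injective {i j : ℕ} (hi : i < D.rank) (hj : j < D.rank)
    (h : D.simple i = D.simple j) : i = j := by
  have h1 := (Δ.hAll i hi).hE.1 i hi
  have h2 := (Δ.hAll j hj).hE.1 i hi
  rw [h] at h1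
  rw [h1] at h2
  by_contra hne
  rw [if_pos rfl, if_neg hne] at h2
  exact one_ne_zero h2

omit Δ in
/-- the fundamental reflection `n_i` in `G` -/
def sG (i : ℕ) : ↥(D.group F) :=
  if hi : i < D.rank then
    ⟨nU Δ.hB (D.simple i) (one_ne_zero (α := F)),
      Δ.monomial_le_group (nU_one_mem_monomial Δ.hB (Δ.hAll i hi).hS.1)⟩
  else 1

theorem sG_coe {i : ℕ} (hi : i < D.rank) :
    ((sG Δ i : ↥(D.group F)) : GL D.Idx F) = nU Δ.hB (D.simple i) (one_ne_zero (α := F)) := by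
  unfold sG; rw [dif_pos hi]

theorem sG_mem_S {i : ℕ} (hi : i < D.rank) : sG Δ i ∈ Δ.bnPair.S := by
  refine ⟨i, hi, ?_⟩
  rw [sG_coe Δ hi, nU_val]

theorem exists_of_mem_S {s : ↥(D.group F)} (hs : s ∈ Δ.bnPair.S) :
    ∃ i < D.rank, s = sG Δ i := by
  obtain ⟨i, hi, hv⟩ := hs
  refine ⟨i, hi, Subtype.ext ?_⟩
  rw [sG_coe Δ hi, Δ.coe_of_mem_Sset hv]

theorem sG_mem_N {i : ℕ} (hi : i < D.rank) : sG Δ i ∈ Δ.bnPair.N :=
  Δ.bnPair.subset (sG_mem_S Δ hi)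

/-- conjugation by `n_i` on root elements -/
theorem sG_conj_xG {i : ℕ} (hi : i < D.rank) {s : ℕ} (hs : s < D.nroots) (t : F) :
    sG Δ i * xG Δ.hB s t * (sG Δ i)⁻¹ =
      xG Δ.hB (wR D (D.simple i) s) (((etaR D (D.simple i) s : ℤ) : F) * t) := by
  apply Subtype.ext
  simp only [Subgroup.coe_mul, Subgroup.coe_inv, xG_coe, sG_coe Δ hi]
  exact nU_conj_xU Δ.hB (Δ.hAll i hi) hs t

theorem sG_inv_conj_xG {i : ℕ} (hi : i < D.rank) {s : ℕ} (hs : s < D.nroots) (t : F) :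
    (sG Δ i)⁻¹ * xG Δ.hB s t * sG Δ i =
      xG Δ.hB (wR D (D.simple i) s)
        (((etaR D (D.simple i) (wR D (D.simple i) s) : ℤ) : F) * t) := by
  apply Subtype.ext
  simp only [Subgroup.coe_mul, Subgroup.coe_inv, xG_coe, sG_coe Δ hi]
  exact nU_inv_conj_xU Δ.hB (Δ.hAll i hi) hs t

omit Δ in
theorem wR_simple_self (i : ℕ) : wR D (D.simple i) (D.simple i) = D.neg (D.simple i) := by
  unfold wR; rw [if_pos rfl]

omit Δ in
theorem etaR_simple_self (i : ℕ) : etaR D (D.simple i) (D.simple i) = -1 := by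
  unfold etaR; rw [if_pos (Or.inl rfl)]

/-- `n_i x_{p_i}(t) n_i⁻¹ = x_{-p_i}(-t)` -/
theorem sG_conj_simple {i : ℕ} (hi : i < D.rank) (t : F) :
    sG Δ i * xG Δ.hB (D.simple i) t * (sG Δ i)⁻¹ = xG Δ.hB (D.neg (D.simple i)) (-t) := by
  rw [sG_conj_xG Δ hi (simple_lt Δ hi), wR_simple_self, etaR_simple_self]
  congr 1
  push_cast
  ring

end withData

end Cfsg.Agent.Helper2.Aut
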