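import Mathlib
import Cfsg.Agent.Helper2.Aut.Basic
import Cfsg.Agent.S1030

set_option autoImplicit false
set_option linter.unusedSectionVars false
set_option linter.unusedSimpArgs false
set_option linter.unusedVariables false

/-! Rank one computations through the homomorphism `SL₂ → ⟨X_r, X_{-r}⟩`. -/

namespace Cfsg.Agent.Helper2.Aut

open Cfsg.Lie Cfsg.Agent.Helper6 Cfsg.Agent.Helper2.BN

variable {D : ChevalleyDatum} {F : Type*} [Field F]

/-- upper unitriangular element of `SL₂` -/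
def uM (t : F) : Matrix.SpecialLinearGroup (Fin 2) F :=
  ⟨!![1, t; 0, 1], by simp [Matrix.det_fin_two]⟩

/-- lower unitriangular element of `SL₂` -/
def lM (t : F) : Matrix.SpecialLinearGroup (Fin 2) F :=
  ⟨!![1, 0; t, 1], by simp [Matrix.det_fin_two]⟩

theorem uM_val (t : F) : (uM t).1 = !![1, t; 0, 1] := rfl

theorem lM_val (t : F) : (lM t).1 = !![1, 0; t, 1] := rfl

theorem sl2_ext {A B : Matrix.SpecialLinearGroup (Fin 2) F}
    (h00 : A.1 0 0 = B.1 0 0) (h01 : A.1 0 1 = B.1 0 1) (h10 : A.1 1 0 = B.1 1 0)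
    (h11 : A.1 1 1 = B.1 1 1) : A = B := by
  apply Subtype.ext
  ext i j
  fin_cases i <;> fin_cases j <;> assumption

theorem sl2_det (M : Matrix.SpecialLinearGroup (Fin 2) F) :
    M.1 0 0 * M.1 1 1 - M.1 0 1 * M.1 1 0 = 1 := by
  have := M.2
  rwa [Matrix.det_fin_two] at this

theorem uM_inv (t : F) : (uM t)⁻¹ = uM (-t) := by
  rw [inv_eq_iff_mul_eq_one]
  apply sl2_ext <;> simp [uM_val, lM_val, Matrix.SpecialLinearGroup.coe_mul, Matrix.SpecialLinearGroup.coe_one, Matrix.mul_apply, Fin.sum_univ_two]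

theorem lM_inv (t : F) : (lM t)⁻¹ = lM (-t) := by
  rw [inv_eq_iff_mul_eq_one]
  apply sl2_ext <;> simp [uM_val, lM_val, Matrix.SpecialLinearGroup.coe_mul, Matrix.SpecialLinearGroup.coe_one, Matrix.mul_apply, Fin.sum_univ_two]

/-- the rank one homomorphism attached to a root -/
theorem exists_phi (hD : IsTabulated D) (hB : BasicOK D) {r : ℕ} (hr : r < D.nroots) :
    ∃ φ : Matrix.SpecialLinearGroup (Fin 2) F →* GL D.Idx F,
      (∀ t : F, φ (uM t) = xU hB r t) ∧ (∀ t : F, φ (lM t) = xU hB (D.neg r) t) := by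
  obtain ⟨φ, -, h⟩ := Cfsg.Agent.S1030.result (F := F) D hD r hr
  refine ⟨φ, fun t => ?_, fun t => ?_⟩
  · apply Units.ext
    rw [xU_val]
    exact (h (uM t) t).1 rfl
  · apply Units.ext
    rw [xU_val]
    exact (h (lM t) t).2 rfl

section rankone

variable (Δ : BNData D F) {r : ℕ} (hr : D.IsPosRoot r)
  (φ : Matrix.SpecialLinearGroup (Fin 2) F →* GL D.Idx F)
  (hu : ∀ t : F, φ (uM t) = xU Δ.hB r t) (hl : ∀ t : F, φ (lM t) = xU Δ.hB (D.neg r) t)
include Δ hr hu hl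

theorem eq_zero_of_xU_pos_mem_V {s : ℕ} (hs : D.IsPosRoot s) {a : F}
    (h : xU Δ.hB s a ∈ D.negUnipotent F) : a = 0 := by
  have h1 : xU Δ.hB s a ∈ D.borelSubgroup F ⊓ D.negUnipotent F :=
    Subgroup.mem_inf.2 ⟨Δ.posUnipotent_le_borel (Δ.xU_pos_mem hs a), h⟩
  rw [borel_inf_negUnipotent Δ.hB Δ.hH Δ.good2, Subgroup.mem_bot] at h1
  have e : xU Δ.hB s a = xU Δ.hB s 0 := by rw [h1, xU_zero]
  exact Cfsg.Agent.Helper2.HRoot.xU_inj' Δ hs.1 e

/-- an element of `SL₂` with non-zero upper right entry is not mapped into `V` -/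
theorem phi_not_mem_V {M : Matrix.SpecialLinearGroup (Fin 2) F} (hM : M.1 0 1 ≠ 0) :
    φ M ∉ D.negUnipotent F := by
  intro hmem
  obtain ⟨c, hc⟩ : ∃ c, c = M.1 0 1 := ⟨_, rfl⟩
  have hc0 : c ≠ 0 := by rw [hc]; exact hM
  have hdet := sl2_det M
  have hnr : D.IsNegRoot (D.neg r) := Δ.isNegRoot_neg hr
  -- factorisation
  obtain ⟨x, hx⟩ : ∃ x, x = M.1 1 1 / c := ⟨_, rfl⟩
  obtain ⟨y, hy⟩ : ∃ y, y = M.1 0 0 / c := ⟨_, rfl⟩
  have e1 : M = lM x * (uM c * lM (-c⁻¹) * uM c) * lM y := by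
    apply sl2_ext
    · simp [uM_val, lM_val, Matrix.SpecialLinearGroup.coe_mul, Matrix.mul_apply, Fin.sum_univ_two]
      rw [hy]; field_simp; ring
    · simp [uM_val, lM_val, Matrix.SpecialLinearGroup.coe_mul, Matrix.mul_apply, Fin.sum_univ_two]
      rw [hc]; field_simp; ring
    · simp [uM_val, lM_val, Matrix.SpecialLinearGroup.coe_mul, Matrix.mul_apply, Fin.sum_univ_two]
      rw [hx, hy]; field_simp
      rw [← hc] at hdet; linear_combination (-1 : F) * hdet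
    · simp [uM_val, lM_val, Matrix.SpecialLinearGroup.coe_mul, Matrix.mul_apply, Fin.sum_univ_two]
      rw [hx]; field_simp; ring
  have hw : φ (uM c * lM (-c⁻¹) * uM c) ∈ D.negUnipotent F := by
    have e2 : uM c * lM (-c⁻¹) * uM c = (lM x)⁻¹ * M * (lM y)⁻¹ := by
      rw [e1]; group
    rw [e2, map_mul, map_mul, map_inv, map_inv, hl, hl]
    exact Subgroup.mul_mem _ (Subgroup.mul_mem _ (Subgroup.inv_mem _ (Δ.xU_neg_mem hnr _)) hmem)
      (Subgroup.inv_mem _ (Δ.xU_neg_mem hnr _))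
  have e3 : (uM c * lM (-c⁻¹) * uM c) * lM 1 * (uM c * lM (-c⁻¹) * uM c)⁻¹ = uM (-c ^ 2) := by
    rw [mul_inv_eq_iff_eq_mul]
    apply sl2_ext <;> simp [uM_val, lM_val, Matrix.SpecialLinearGroup.coe_mul, Matrix.SpecialLinearGroup.coe_one, Matrix.mul_apply, Fin.sum_univ_two] <;> (try field_simp) <;> (try ring_nf) <;> (try simp)
  have h4 : φ (uM (-c ^ 2)) ∈ D.negUnipotent F := by
    rw [← e3, map_mul, map_mul, map_inv, hl]
    exact Subgroup.mul_mem _ (Subgroup.mul_mem _ hw (Δ.xU_neg_mem hnr _)) (Subgroup.inv_mem _ hw)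
  rw [hu] at h4
  have := eq_zero_of_xU_pos_mem_V Δ hr φ hu hl hr h4
  apply hc0
  have h5 : c ^ 2 = 0 := by linear_combination (-1 : F) * this
  exact pow_eq_zero_iff (two_ne_zero) |>.1 h5

/-- `x_r(1)` and `x_{-r}(1)` do not commute -/
theorem not_commute_pm :
    xU Δ.hB r (1 : F) * xU Δ.hB (D.neg r) 1 ≠ xU Δ.hB (D.neg r) 1 * xU Δ.hB r 1 := by
  intro h
  have hnr : D.IsNegRoot (D.neg r) := Δ.isNegRoot_neg hr
  have h1 : φ (uM 1 * lM 1 * (uM 1)⁻¹) ∈ D.negUnipotent F := by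
    rw [map_mul, map_mul, map_inv, hu, hl, h, mul_assoc, mul_inv_cancel, mul_one]
    exact Δ.xU_neg_mem hnr _
  refine phi_not_mem_V Δ hr φ hu hl ?_ h1
  rw [uM_inv]
  simp [uM_val, lM_val, Matrix.SpecialLinearGroup.coe_mul, Matrix.SpecialLinearGroup.coe_one, Matrix.mul_apply, Fin.sum_univ_two]

/-- if `x_r(a) x_{-r}(b) x_r(a)` conjugates a non-trivial element of `X_r` into `V` then `a b = -1` -/
theorem mul_eq_neg_one_of_conj {a b s : F} (hs : s ≠ 0)
    (h : (xU Δ.hB r a * xU Δ.hB (D.neg r) b * xU Δ.hB r a) * xU Δ.hB r s *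
      (xU Δ.hB r a * xU Δ.hB (D.neg r) b * xU Δ.hB r a)⁻¹ ∈ D.negUnipotent F) : a * b = -1 := by
  by_contra hab
  have hne : 1 + a * b ≠ 0 := fun h0 => hab (by linear_combination h0)
  have h1 : φ ((uM a * lM b * uM a) * uM s * (uM a * lM b * uM a)⁻¹) ∈ D.negUnipotent F := by
    rw [map_mul, map_mul, map_inv, map_mul, map_mul, hu, hl, hu]
    exact h
  refine phi_not_mem_V Δ hr φ hu hl ?_ h1
  have e : (uM a * lM b * uM a)⁻¹ = uM (-a) * lM (-b) * uM (-a) := by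
    rw [mul_inv_rev, mul_inv_rev, uM_inv, lM_inv, mul_assoc]
  rw [e]
  have : ((uM a * lM b * uM a) * uM s * (uM (-a) * lM (-b) * uM (-a))).1 0 1 =
      (1 + a * b) ^ 2 * s := by
    simp [uM_val, lM_val, Matrix.SpecialLinearGroup.coe_mul, Matrix.SpecialLinearGroup.coe_one, Matrix.mul_apply, Fin.sum_univ_two]; ring
  rw [this]
  exact mul_ne_zero (pow_ne_zero _ hne) hs

/-- `n_r(t) x_r(u) n_r(t)⁻¹ = x_{-r}(-t⁻² u)` -/
theorem nword_conj {t : F} (ht : t ≠ 0) (u : F) :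
    (xU Δ.hB r t * xU Δ.hB (D.neg r) (-t⁻¹) * xU Δ.hB r t) * xU Δ.hB r u *
      (xU Δ.hB r t * xU Δ.hB (D.neg r) (-t⁻¹) * xU Δ.hB r t)⁻¹ =
      xU Δ.hB (D.neg r) (-(t⁻¹) ^ 2 * u) := by
  have e : (uM t * lM (-t⁻¹) * uM t) * uM u * (uM t * lM (-t⁻¹) * uM t)⁻¹ =
      lM (-(t⁻¹) ^ 2 * u) := by
    rw [mul_inv_eq_iff_eq_mul]
    apply sl2_ext <;> simp [uM_val, lM_val, Matrix.SpecialLinearGroup.coe_mul, Matrix.SpecialLinearGroup.coe_one, Matrix.mul_apply, Fin.sum_univ_two] <;> (try field_simp) <;> (try ring_nf) <;> (try simp)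
  have := congrArg φ e
  rw [map_mul, map_mul, map_inv, map_mul, map_mul, hu, hl, hu, hl] at this
  exact this

/-- `x_{-r}(t⁻¹) = x_r(t) h_r(-t) n_r x_r(t)` -/
theorem xneg_eq {t : F} (ht : t ≠ 0) :
    xU Δ.hB (D.neg r) t⁻¹ = xU Δ.hB r t * wordU Δ.hB (D.hWord r (-t)) *
      nU Δ.hB r (one_ne_zero (α := F)) * xU Δ.hB r t := by
  have e : lM t⁻¹ = uM t * (uM (-t) * lM (- (-t)⁻¹) * uM (-t) *
      (uM (-1) * lM (-(-1 : F)⁻¹) * uM (-1))) * (uM 1 * lM (-(1 : F)⁻¹) * uM 1) * uM t := by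
    apply sl2_ext <;> simp [uM_val, lM_val, Matrix.SpecialLinearGroup.coe_mul, Matrix.SpecialLinearGroup.coe_one, Matrix.mul_apply, Fin.sum_univ_two] <;> (try field_simp) <;> (try ring_nf) <;> (try simp)
  have := congrArg φ e
  simp only [map_mul, hu, hl] at this
  rw [this, Cfsg.Agent.Helper2.HRoot.nU_eq_mul]
  simp only [ChevalleyDatum.hWord, ChevalleyDatum.nWord, wordU, List.map_cons, List.map_nil,
    List.prod_cons, List.prod_nil, List.cons_append, List.nil_append, mul_one, mul_assoc]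

end rankone

end Cfsg.Agent.Helper2.Aut
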