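import Mathlib
import Cfsg.Agent.Helper2.Aut.Basic
import Cfsg.Agent.Helper11.ChevSylow
import Cfsg.Agent.S1053

set_option autoImplicit false
set_option linter.unusedSectionVars false
set_option linter.unusedSimpArgs false
set_option linter.unusedVariables false

/-! Normalising an automorphism of a tabulated Chevalley group over a finite field:
after an inner automorphism it preserves `U`, `V` and `B`. -/

namespace Cfsg.Agent.Helper2.Aut

open Cfsg.Lie Cfsg.Agent.Helper6 Cfsg.Agent.Helper2.BN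
open scoped Pointwise

section abstract

variable {G : Type*} [Group G]

/-- `θ` maps the subgroup `K` onto itself -/
def Pres (θ : G ≃* G) (K : Subgroup G) : Prop := ∀ y, θ y ∈ K ↔ y ∈ K

/-- `θ` followed by conjugation with `x⁻¹` -/
def cjA (x : G) (θ : G ≃* G) : G ≃* G := θ.trans (MulAut.conj x⁻¹)

theorem cjA_apply (x : G) (θ : G ≃* G) (y : G) : cjA x θ y = x⁻¹ * θ y * x := by
  simp [cjA, MulAut.conj_apply]

theorem Pres.symm {θ : G ≃* G} {K : Subgroup G} (h : Pres θ K) : Pres θ.symm K := by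
  intro y
  have := h (θ.symm y)
  rw [MulEquiv.apply_symm_apply] at this
  exact this.symm

theorem Pres.normalizer {θ : G ≃* G} {K : Subgroup G} (h : Pres θ K) :
    Pres θ (Subgroup.normalizer (K : Set G)) := by
  intro y
  rw [Subgroup.mem_normalizer_iff, Subgroup.mem_normalizer_iff]
  constructor
  · intro hy u
    have := hy (θ u)
    rw [h u, ← map_inv, ← map_mul, ← map_mul, h] at this
    exact this
  · intro hy u'
    obtain ⟨u, rfl⟩ := θ.surjective u'
    rw [h u, ← map_inv, ← map_mul, ← map_mul, h]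
    exact hy u

theorem Pres.inf {θ : G ≃* G} {K L : Subgroup G} (h1 : Pres θ K) (h2 : Pres θ L) :
    Pres θ (K ⊓ L) := by
  intro y
  rw [Subgroup.mem_inf, Subgroup.mem_inf, h1, h2]

theorem Pres.eq_of_eq {θ : G ≃* G} {K L : Subgroup G} (h : Pres θ K) (e : K = L) : Pres θ L :=
  e ▸ h

theorem pres_cjA {x : G} {θ : G ≃* G} {K : Subgroup G} (h : Pres θ K)
    (hx : x ∈ Subgroup.normalizer (K : Set G)) : Pres (cjA x θ) K := by
  intro y
  rw [cjA_apply, ← h y]
  have hx' := Subgroup.inv_mem _ hx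
  rw [Subgroup.mem_normalizer_iff] at hx'
  have := hx' (θ y)
  rw [inv_inv] at this
  exact this.symm

end abstract

variable {D : ChevalleyDatum} {F : Type*} [Field F]

section withData

variable (Δ : BNData D F)
include Δ

/-- `B` normalises `U` in `G` -/
theorem B_le_normalizer_UG :
    Δ.bnPair.B ≤ Subgroup.normalizer ((UG D F : Subgroup ↥(D.group F)) : Set ↥(D.group F)) := by
  intro b hb
  rw [Δ.mem_B_iff_val] at hb
  have hb' : (b : GL D.Idx F) ∈ Subgroup.normalizer ((D.posUnipotent F : Subgroup (GL D.Idx F)) :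
      Set (GL D.Idx F)) := by
    have : D.borelSubgroup F ≤ Subgroup.normalizer ((D.posUnipotent F : Subgroup (GL D.Idx F)) :
        Set (GL D.Idx F)) := by
      unfold ChevalleyDatum.borelSubgroup
      exact sup_le Subgroup.le_normalizer
        (diagonal_le_normalizer_posUnipotent Δ.hB Δ.hAll Δ.hAdd Δ.hH)
    exact this hb
  rw [Subgroup.mem_normalizer_iff] at hb' ⊢
  intro u
  rw [mem_UG, mem_UG]
  have := hb' (u : GL D.Idx F)
  simpa using this

end withData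

section finite

variable [Finite F]

/-- the monomial element `n₀` in `G` with `n₀ U n₀⁻¹ = V` -/
theorem exists_n0 (hD : IsTabulated D) (Δ : BNData D F) :
    ∃ n0 : ↥(D.group F), n0 ∈ Δ.bnPair.N ∧ ∀ y : ↥(D.group F), y ∈ VG D F ↔ n0⁻¹ * y * n0 ∈ UG D F := by
  obtain ⟨n, hn, hmap⟩ := Cfsg.Agent.S1053.result (F := F) D hD
  refine ⟨⟨n, Δ.monomial_le_group hn⟩, Δ.mem_N_iff_val.2 hn, fun y => ?_⟩
  rw [mem_VG, mem_UG, ← hmap]
  simp only [Subgroup.coe_mul, Subgroup.coe_inv]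
  constructor
  · rintro ⟨u, hu, hy⟩
    simp only [MulEquiv.coe_toMonoidHom, MulAut.conj_apply] at hy
    rw [← hy]
    have : n⁻¹ * (n * u * n⁻¹) * n = u := by group
    rw [this]; exact hu
  · intro hu
    refine ⟨_, hu, ?_⟩
    simp only [MulEquiv.coe_toMonoidHom, MulAut.conj_apply]
    group

theorem card_VG_eq (hD : IsTabulated D) (Δ : BNData D F) :
    Nat.card (VG D F) = Nat.card (UG D F) := by
  obtain ⟨n0, -, h⟩ := exists_n0 hD Δ
  apply Nat.card_congr
  refine ⟨fun v => ⟨n0⁻¹ * v.1 * n0, (h v.1).1 v.2⟩, fun u => ⟨n0 * u.1 * n0⁻¹, ?_⟩, ?_, ?_⟩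
  · rw [h]
    have : n0⁻¹ * (n0 * u.1 * n0⁻¹) * n0 = u.1 := by group
    rw [this]; exact u.2
  · intro v; apply Subtype.ext; show n0 * (n0⁻¹ * v.1 * n0) * n0⁻¹ = v.1; group
  · intro u; apply Subtype.ext; show n0⁻¹ * (n0 * u.1 * n0⁻¹) * n0 = u.1; group

/-- after an inner automorphism, `θ` preserves `U` -/
theorem exists_pres_UG (hD : IsTabulated D) (θ : ↥(D.group F) ≃* ↥(D.group F)) :
    ∃ x : ↥(D.group F), Pres (cjA x θ) (UG D F) := by
  haveI : Fintype F := Fintype.ofFinite F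
  obtain ⟨p, hp⟩ := CharP.exists F
  haveI := hp
  haveI : Fact p.Prime := ⟨CharP.char_is_prime F p⟩
  obtain ⟨P, hP⟩ := Cfsg.Agent.Helper11.ChevSylow.exists_sylow (F := F) p hD
  let θ' : MulAut ↥(D.group F) := θ
  obtain ⟨g, hg⟩ := MulAction.exists_smul_eq ↥(D.group F) (θ' • P) P
  refine ⟨g⁻¹, fun y => ?_⟩
  have h1 : ∀ z : ↥(D.group F), z ∈ UG D F ↔ θ'⁻¹ • ((MulAut.conj g)⁻¹ • z) ∈ UG D F := by
    intro z
    have e := congrArg (fun Q : Sylow p ↥(D.group F) => (Q : Subgroup ↥(D.group F))) hg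
    simp only [Sylow.coe_subgroup_smul, Sylow.pointwise_smul_def] at e
    have hU : UG D F = (P : Subgroup ↥(D.group F)) := hP.symm
    rw [hU]
    conv_lhs => rw [← e]
    rw [Subgroup.mem_pointwise_smul_iff_inv_smul_mem, Subgroup.mem_pointwise_smul_iff_inv_smul_mem]
  rw [cjA_apply, inv_inv, h1]
  have e2 : θ'⁻¹ • ((MulAut.conj g)⁻¹ • (g * θ y * g⁻¹)) = y := by
    simp only [MulAut.smul_def, MulAut.inv_apply, MulAut.conj_symm_apply]
    have : g⁻¹ * (g * θ y * g⁻¹) * g = θ y := by group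
    rw [this]
    exact θ.symm_apply_apply y
  rw [e2]

theorem pres_of_maps {G : Type*} [Group G] {θ : G ≃* G} {K : Subgroup G} [Finite K]
    (h : ∀ y ∈ K, θ y ∈ K) : Pres θ K := by
  intro y
  refine ⟨fun hy => ?_, h y⟩
  let f : K → K := fun v => ⟨θ v.1, h v.1 v.2⟩
  have hinj : Function.Injective f := by
    intro a b hab
    apply Subtype.ext
    exact θ.injective (congrArg Subtype.val hab)
  obtain ⟨v, hv⟩ := (Finite.injective_iff_surjective.1 hinj) ⟨θ y, hy⟩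
  have : θ v.1 = θ y := congrArg Subtype.val hv
  rw [← θ.injective this]
  exact v.2

theorem cjA_mul {G : Type*} [Group G] (x b : G) (θ : G ≃* G) :
    cjA (x * b) θ = cjA b (cjA x θ) := by
  ext y
  rw [cjA_apply, cjA_apply, cjA_apply]
  group

theorem pres_B (hD : IsTabulated D) (Δ : BNData D F) {θ : ↥(D.group F) ≃* ↥(D.group F)}
    (h : Pres θ (UG D F)) : Pres θ Δ.bnPair.B :=
  h.normalizer.eq_of_eq (Cfsg.Agent.Helper11.ChevSylow.normalizer_posUnipotent hD)

/-- if `θ` preserves `U` then `θ(V)` is conjugate to `V` under `B` -/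
theorem exists_conj_VG (hD : IsTabulated D) (Δ : BNData D F)
    {θ : ↥(D.group F) ≃* ↥(D.group F)} (h : Pres θ (UG D F)) :
    ∃ b ∈ Δ.bnPair.B, Pres (cjA b θ) (VG D F) := by
  have hPB := pres_B hD Δ h
  obtain ⟨n0, hn0, hV⟩ := exists_n0 hD Δ
  obtain ⟨b, hb, n, hn, u, hu, e⟩ := Δ.exists_normal_form (θ n0).2
  have huU : u ∈ D.posUnipotent F := Δ.unegGen_le_posUnipotent n hu
  -- Claim 1
  have c1 : ∀ w ∈ D.posUnipotent F, n * w * n⁻¹ ∈ D.borelSubgroup F → w = 1 := by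
    intro w hw hwB
    have hw' : u⁻¹ * w * u ∈ D.posUnipotent F :=
      Subgroup.mul_mem _ (Subgroup.mul_mem _ (Subgroup.inv_mem _ huU) hw) huU
    obtain ⟨wG, hwG⟩ : ∃ wG : ↥(D.group F), (wG : GL D.Idx F) = u⁻¹ * w * u :=
      ⟨⟨_, posUnipotent_le_group Δ.hB hw'⟩, rfl⟩
    have hwGU : wG ∈ UG D F := by rw [mem_UG, hwG]; exact hw'
    obtain ⟨z, hz⟩ : ∃ z, z = θ.symm wG := ⟨_, rfl⟩
    have hzU : z ∈ UG D F := by rw [hz]; exact (h.symm wG).2 hwGU
    have hθz : θ z = wG := by rw [hz]; exact θ.apply_symm_apply wG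
    have hvV : n0 * z * n0⁻¹ ∈ VG D F := by
      rw [hV]
      have : n0⁻¹ * (n0 * z * n0⁻¹) * n0 = z := by group
      rw [this]; exact hzU
    have hθv : θ (n0 * z * n0⁻¹) ∈ Δ.bnPair.B := by
      rw [Δ.mem_B_iff_val, map_mul, map_mul, map_inv, hθz]
      simp only [Subgroup.coe_mul, Subgroup.coe_inv, hwG, e]
      have : b * n * u * (u⁻¹ * w * u) * (b * n * u)⁻¹ = b * (n * w * n⁻¹) * b⁻¹ := by group
      rw [this]
      exact Subgroup.mul_mem _ (Subgroup.mul_mem _ hb hwB) (Subgroup.inv_mem _ hb)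
    have hvB := (hPB _).1 hθv
    have hv1 := eq_one_of_mem_B_of_mem_VG Δ hvB hvV
    have hz1 : z = 1 := by
      have : z = n0⁻¹ * (n0 * z * n0⁻¹) * n0 := by group
      rw [this, hv1]; group
    have hwG1 : wG = 1 := by rw [← hθz, hz1, map_one]
    have : u⁻¹ * w * u = 1 := by rw [← hwG, hwG1]; rfl
    have e2 : w = u * (u⁻¹ * w * u) * u⁻¹ := by group
    rw [e2, this]; group
  -- Claim 2
  obtain ⟨σ, c, hσ⟩ := Δ.rootPermP_of_mem hn
  have c2 : ∀ r, D.IsPosRoot r → D.IsNegRoot (σ r) := by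
    intro r hr
    obtain ⟨h1, -, h3⟩ := hσ r hr.1
    by_contra hneg
    have hpos : D.IsPosRoot (σ r) := by
      rw [Δ.hsign' _ h1]
      by_contra hlt
      exact hneg (((Δ.hsign _ h1).2).2 (by omega))
    have := c1 _ (Δ.xU_pos_mem hr 1) (by
      rw [h3]; exact Δ.posUnipotent_le_borel (Δ.xU_pos_mem hpos _))
    exact Δ.xU_one_ne_one hr.1 this
  -- Claim 3
  have c3 : ∀ w ∈ D.posUnipotent F, n * w * n⁻¹ ∈ D.negUnipotent F := by
    intro w hw
    unfold ChevalleyDatum.posUnipotent at hw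
    refine conj_closure_mem n ?_ w hw
    rintro g ⟨r, t, hr, hg⟩
    have : g = xU Δ.hB r t := Units.ext (by rw [hg, xU_val])
    rw [this, (hσ r hr.1).2.2]
    exact Δ.xU_neg_mem (c2 r hr) _
  -- the element `b` in `G`
  obtain ⟨bG, hbG⟩ : ∃ bG : ↥(D.group F), (bG : GL D.Idx F) = b := ⟨⟨b, Δ.borel_le_group hb⟩, rfl⟩
  have hbGB : bG ∈ Δ.bnPair.B := by rw [Δ.mem_B_iff_val, hbG]; exact hb
  refine ⟨bG, hbGB, ?_⟩
  haveI : Finite ↥(D.group F) := inferInstance
  apply pres_of_maps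
  intro v hv
  rw [cjA_apply, mem_VG]
  obtain ⟨z, hz⟩ : ∃ z, z = n0⁻¹ * v * n0 := ⟨_, rfl⟩
  have hzU : z ∈ UG D F := by rw [hz]; exact (hV v).1 hv
  have hv' : v = n0 * z * n0⁻¹ := by rw [hz]; group
  have hθzU : ((θ z : ↥(D.group F)) : GL D.Idx F) ∈ D.posUnipotent F := mem_UG.1 ((h z).2 hzU)
  rw [hv', map_mul, map_mul, map_inv]
  simp only [Subgroup.coe_mul, Subgroup.coe_inv, hbG, e]
  have : b⁻¹ * (b * n * u * (θ z : ↥(D.group F)) * (b * n * u)⁻¹) * b =
      n * (u * (θ z : ↥(D.group F)) * u⁻¹) * n⁻¹ := by group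
  rw [this]
  exact c3 _ (Subgroup.mul_mem _ (Subgroup.mul_mem _ huU hθzU) (Subgroup.inv_mem _ huU))

/-- every automorphism is, up to an inner automorphism, one preserving `U`, `V` and `B` -/
theorem exists_normalize (hD : IsTabulated D) (Δ : BNData D F)
    (θ : ↥(D.group F) ≃* ↥(D.group F)) :
    ∃ x : ↥(D.group F), Pres (cjA x θ) (UG D F) ∧ Pres (cjA x θ) (VG D F) ∧
      Pres (cjA x θ) Δ.bnPair.B := by
  obtain ⟨x, hx⟩ := exists_pres_UG hD θ
  obtain ⟨b, hb, hbV⟩ := exists_conj_VG hD Δ hx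
  have hU : Pres (cjA b (cjA x θ)) (UG D F) := pres_cjA hx (B_le_normalizer_UG Δ hb)
  refine ⟨x * b, ?_, ?_, ?_⟩
  · rw [cjA_mul]; exact hU
  · rw [cjA_mul]; exact hbV
  · rw [cjA_mul]; exact pres_B hD Δ hU

end finite

end Cfsg.Agent.Helper2.Aut
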