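import Mathlib
import Cfsg.Agent.Helper2.Aut.SL2
import Cfsg.Agent.Helper2.Aut.Sylow
import Cfsg.Agent.Helper2.BN.Bruhat
import Cfsg.Agent.Helper2.BN.Exchange

set_option autoImplicit false
set_option linter.unusedSectionVars false
set_option linter.unusedSimpArgs false
set_option linter.unusedVariables false

/-! An automorphism preserving `U`, `V`, `B` permutes the fundamental root subgroups. -/

namespace Cfsg.Agent.Helper2.Aut

open Cfsg.Lie Cfsg.Agent.Helper6 Cfsg.Agent.Helper2.BN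

variable {D : ChevalleyDatum} {F : Type*} [Field F]

section parab

variable (Δ : BNData D F)
include Δ

/-- an automorphism preserving `B` permutes the minimal parabolic subgroups -/
theorem exists_perm_parabolic {θ : ↥(D.group F) ≃* ↥(D.group F)} (hPB : Pres θ Δ.bnPair.B)
    {i : ℕ} (hi : i < D.rank) :
    ∃ j < D.rank, ∀ y, θ y ∈ Δ.bnPair.parabolic {sG Δ j} ↔ y ∈ Δ.bnPair.parabolic {sG Δ i} := by
  obtain ⟨P, hP⟩ : ∃ P, P = Δ.bnPair := ⟨_, rfl⟩
  rw [← hP] at hPB ⊢
  have hsi : sG Δ i ∈ P.S := by rw [hP]; exact sG_mem_S Δ hi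
  obtain ⟨M, hMdef⟩ : ∃ M, M = (P.parabolic {sG Δ i}).map θ.toMonoidHom := ⟨_, rfl⟩
  have hmemM : ∀ y, θ y ∈ M ↔ y ∈ P.parabolic {sG Δ i} := by
    intro y
    rw [hMdef]
    constructor
    · rintro ⟨z, hz, hzy⟩
      have : z = y := θ.injective hzy
      rw [← this]; exact hz
    · intro hy; exact ⟨y, hy, rfl⟩
  have hBM : P.B ≤ M := by
    intro b hb
    obtain ⟨z, rfl⟩ := θ.surjective b
    rw [hmemM]
    exact B_le_parabolic (P := P) _ ((hPB z).1 hb)
  have hM := eq_parabolic_of_le (P := P) M hBM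
  have hne : (P.S ∩ (M : Set ↥(D.group F))).Nonempty := by
    by_contra hemp
    rw [Set.not_nonempty_iff_eq_empty] at hemp
    rw [hemp] at hM
    have h1 : θ (sG Δ i) ∈ M :=
      (hmemM _).2 (closure_le_parabolic (P := P) _ (Subgroup.subset_closure rfl))
    rw [hM] at h1
    have h2 : θ (sG Δ i) ∈ P.B := by
      simpa [Cfsg.BNPair.parabolic] using h1
    exact not_mem_B_of_mem_S (P := P) hsi ((hPB _).1 h2)
  obtain ⟨s, hsS, hsM⟩ := hne
  obtain ⟨j, hj, rfl⟩ := exists_of_mem_S Δ (by rw [← hP]; exact hsS)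
  refine ⟨j, hj, fun y => ?_⟩
  have hPsM : P.parabolic {sG Δ j} ≤ M := by
    apply sup_le hBM
    rw [Subgroup.closure_le]
    intro z hz
    rw [Set.mem_singleton_iff] at hz
    rw [hz]; exact hsM
  constructor
  · intro hy; exact (hmemM y).1 (hPsM hy)
  · have hK : P.parabolic {sG Δ i} ≤ (P.parabolic {sG Δ j}).comap θ.toMonoidHom := by
      apply sup_le
      · intro b hb
        show θ b ∈ P.parabolic {sG Δ j}
        exact B_le_parabolic (P := P) _ ((hPB b).2 hb)
      · rw [Subgroup.closure_le]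
        intro z hz
        rw [Set.mem_singleton_iff] at hz
        subst hz
        show θ (sG Δ i) ∈ P.parabolic {sG Δ j}
        obtain ⟨s', hs'⟩ : ∃ s', θ s' = sG Δ j := θ.surjective _
        have hs'P : s' ∈ P.parabolic {sG Δ i} := (hmemM s').1 (by rw [hs']; exact hsM)
        have hs'B : s' ∉ P.B := fun h =>
          not_mem_B_of_mem_S (P := P) hsS (by rw [← hs']; exact (hPB s').2 h)
        have hmem : s' ∈ (P.parabolic {sG Δ i} : Set ↥(D.group F)) := hs'P
        rw [parabolic_singleton_coe hsi] at hmem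
        rcases hmem with h | h
        · exact absurd h hs'B
        · obtain ⟨b, hb, b', hb', e⟩ := (mem_C_iff P).1 h
          have e2 : sG Δ i = b⁻¹ * s' * b'⁻¹ := by rw [e]; group
          rw [e2, map_mul, map_mul, hs']
          exact Subgroup.mul_mem _ (Subgroup.mul_mem _
            (B_le_parabolic (P := P) _ ((hPB _).2 (inv_mem hb)))
            (closure_le_parabolic (P := P) _ (Subgroup.subset_closure rfl)))
            (B_le_parabolic (P := P) _ ((hPB _).2 (inv_mem hb')))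
    intro hy
    exact hK hy

/-- the elements of `U_w⁻` for `w = s_i` are root elements of `p_i` -/
theorem unegGen_simple_le {i : ℕ} (hi : i < D.rank) :
    Subgroup.closure (UnegGen D F (nU Δ.hB (D.simple i) (one_ne_zero (α := F)))) ≤
      D.rootSubgroup F (D.simple i) := by
  rw [Subgroup.closure_le]
  intro x hx
  obtain ⟨r, t, hr, hall, rfl⟩ := Δ.mem_unegGen_iff.1 hx
  by_cases hrs : r = D.simple i
  · rw [hrs]; exact (mem_rootSubgroup_iff Δ.hB).2 ⟨t, rfl⟩
  · exfalso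
    have hw := wpos_spec Δ.hB Δ.hF Δ.hn Δ.hAll Δ.hAdd Δ.hH Δ.hReach hi (Δ.hR i hi) (Δ.hWp i hi)
      Δ.hC Δ.hsign' (Δ.hpN i hi) (Δ.hnp hi) hr hrs
    have h1 := hall 1
    rw [nU_conj_xU Δ.hB (Δ.hAll i hi) hr.1] at h1
    have h2 := eq_zero_of_xU_pos_mem_negUnipotent Δ hw.1 h1
    rcases ((Δ.hAll i hi).hE.2 _ hr.1).1 with h4 | h4 <;> rw [h4] at h2 <;> simp at h2

end parab

section finite

variable [Finite F]

/-- `X_{-p_i} = V ∩ P_i` -/
theorem mem_XG_neg_iff (hD : IsTabulated D) (Δ : BNData D F) {i : ℕ} (hi : i < D.rank)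
    (y : ↥(D.group F)) :
    y ∈ XG D F (D.neg (D.simple i)) ↔ y ∈ VG D F ∧ y ∈ Δ.bnPair.parabolic {sG Δ i} := by
  obtain ⟨P, hP⟩ : ∃ P, P = Δ.bnPair := ⟨_, rfl⟩
  rw [← hP]
  have hsi : sG Δ i ∈ P.S := by rw [hP]; exact sG_mem_S Δ hi
  have hsiP : sG Δ i ∈ P.parabolic {sG Δ i} :=
    closure_le_parabolic (P := P) _ (Subgroup.subset_closure rfl)
  have hp := simple_lt Δ hi
  have hnp := neg_simple_lt Δ hi
  constructor
  · intro hy
    obtain ⟨t, rfl⟩ := (mem_XG Δ.hB).1 hy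
    refine ⟨xG_neg_mem Δ (isNeg_neg_simple Δ hi) t, ?_⟩
    have e := sG_conj_simple Δ hi (-t)
    rw [neg_neg] at e
    rw [← e]
    refine Subgroup.mul_mem _ (Subgroup.mul_mem _ hsiP ?_) (Subgroup.inv_mem _ hsiP)
    apply B_le_parabolic (P := P)
    rw [hP]
    exact UG_le_B Δ (xG_pos_mem Δ (isPos_simple Δ hi) _)
  · rintro ⟨hV, hPar⟩
    have hmem : y ∈ (P.parabolic {sG Δ i} : Set ↥(D.group F)) := hPar
    rw [parabolic_singleton_coe hsi] at hmem
    rcases hmem with hB | hC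
    · have := eq_one_of_mem_B_of_mem_VG Δ (by rw [← hP]; exact hB) hV
      rw [this]
      exact Subgroup.one_mem _
    · rw [hP] at hC
      obtain ⟨b₁, hb₁, b₂, hb₂, e⟩ := Δ.mem_C_iff_val.1 hC
      rw [sG_coe Δ hi] at e
      have hb₂' : b₂ ∈ ((D.posUnipotent F ⊔ D.diagonalSubgroup F : Subgroup (GL D.Idx F)) :
          Set (GL D.Idx F)) := hb₂
      rw [Subgroup.coe_mul_of_right_le_normalizer_left _ _
        (diagonal_le_normalizer_posUnipotent Δ.hB Δ.hAll Δ.hAdd Δ.hH), Set.mem_mul] at hb₂'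
      obtain ⟨u, hu, h, hh, rfl⟩ := hb₂'
      obtain ⟨a, ha, hna, c, hc, rfl⟩ := Δ.adec_of_mem (nU_one_mem_monomial Δ.hB hp) u hu
      obtain ⟨t, rfl⟩ := (mem_rootSubgroup_iff Δ.hB).1 (unegGen_simple_le Δ hi hc)
      -- lift to `G`
      obtain ⟨b₃, hb₃⟩ : ∃ b₃ : ↥(D.group F), (b₃ : GL D.Idx F) =
          b₁ * (nU Δ.hB (D.simple i) (one_ne_zero (α := F)) * a *
            (nU Δ.hB (D.simple i) (one_ne_zero (α := F)))⁻¹) :=
        ⟨⟨_, Δ.borel_le_group (Subgroup.mul_mem _ hb₁ (Δ.posUnipotent_le_borel hna))⟩, rfl⟩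
      have hb₃B : b₃ ∈ P.B := by
        rw [hP, Δ.mem_B_iff_val, hb₃]
        exact Subgroup.mul_mem _ hb₁ (Δ.posUnipotent_le_borel hna)
      obtain ⟨hG, hhG⟩ : ∃ hG : ↥(D.group F), (hG : GL D.Idx F) = h :=
        ⟨⟨h, diagonalSubgroup_le_group Δ.hB hh⟩, rfl⟩
      have hhGH : hG ∈ H P := by rw [hP, Δ.mem_H_iff_val, hhG]; exact hh
      have eG : y = b₃ * sG Δ i * xG Δ.hB (D.simple i) t * hG := by
        apply Subtype.ext
        simp only [Subgroup.coe_mul, xG_coe, sG_coe Δ hi, hb₃, hhG]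
        rw [e]; group
      by_cases ht : t = 0
      · -- impossible
        exfalso
        subst ht
        rw [xG_zero, mul_one] at eG
        obtain ⟨n0, hn0, hV0⟩ := exists_n0 hD Δ
        rw [← hP] at hn0
        have hu0 : n0⁻¹ * y * n0 ∈ P.B := by
          rw [hP]; exact UG_le_B Δ ((hV0 y).1 hV)
        have hmemC : sG Δ i * hG * n0 ∈ C P n0 := by
          rw [mem_C_iff]
          refine ⟨b₃⁻¹, inv_mem hb₃B, n0⁻¹ * y * n0, hu0, ?_⟩
          rw [eG]; group
        have hC' := C_eq_of_mem P hmemC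
        have hmemN : sG Δ i * hG * n0 ∈ P.N :=
          mul_mem (mul_mem (P.subset hsi) (H_le_N P hhGH)) hn0
        have h1 := bruhat_unique hmemN hn0 hC'
        have e1 : (sG Δ i * hG * n0)⁻¹ * n0 = n0⁻¹ * (hG⁻¹ * (sG Δ i)⁻¹) * n0 := by group
        rw [e1] at h1
        have h2 := mem_H_of_conj_mem_H hn0 h1
        have h3 : sG Δ i ∈ H P := by
          have e2 : sG Δ i = (hG * (hG⁻¹ * (sG Δ i)⁻¹))⁻¹ := by group
          rw [e2]
          exact inv_mem (mul_mem hhGH h2)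
        exact not_mem_B_of_mem_S (P := P) hsi (H_le_B P h3)
      · -- `t ≠ 0`
        obtain ⟨φ, hφu, hφl⟩ := exists_phi (F := F) hD Δ.hB hp
        have hx := xneg_eq Δ (isPos_simple Δ hi) φ hφu hφl ht
        have hwd : wordU Δ.hB (D.hWord (D.simple i) (-t)) ∈ D.diagonalSubgroup F :=
          hWordU_mem_diagonal Δ.hB hp (neg_ne_zero.2 ht)
        obtain ⟨hw, hhw⟩ : ∃ hw : ↥(D.group F), (hw : GL D.Idx F) =
            wordU Δ.hB (D.hWord (D.simple i) (-t)) :=
          ⟨⟨_, diagonalSubgroup_le_group Δ.hB hwd⟩, rfl⟩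
        have hhwB : hw ∈ P.B := by
          rw [hP, Δ.mem_B_iff_val, hhw]; exact Δ.diag_le_borel hwd
        have ev : xG Δ.hB (D.neg (D.simple i)) t⁻¹ =
            (xG Δ.hB (D.simple i) t * hw) * sG Δ i * xG Δ.hB (D.simple i) t := by
          apply Subtype.ext
          simp only [Subgroup.coe_mul, xG_coe, sG_coe Δ hi, hhw]
          exact hx
        have hxB : xG Δ.hB (D.simple i) t ∈ P.B := by
          rw [hP]; exact UG_le_B Δ (xG_pos_mem Δ (isPos_simple Δ hi) _)
        -- `H` normalises `X_{-p_i}`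
        obtain ⟨c, hc⟩ := Δ.diag_conj_xU (Subgroup.inv_mem _ hh) hnp
        have hconj : hG⁻¹ * (xG Δ.hB (D.neg (D.simple i)) t⁻¹)⁻¹ * hG =
            xG Δ.hB (D.neg (D.simple i)) (c * (-t⁻¹)) := by
          apply Subtype.ext
          simp only [Subgroup.coe_mul, Subgroup.coe_inv, xG_coe, hhG]
          have := hc (-t⁻¹)
          rw [inv_inv] at this
          rw [xU_inv]
          exact this
        have hzV : y * xG Δ.hB (D.neg (D.simple i)) (c * (-t⁻¹)) ∈ VG D F :=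
          Subgroup.mul_mem _ hV (xG_neg_mem Δ (isNeg_neg_simple Δ hi) _)
        have hzB : y * xG Δ.hB (D.neg (D.simple i)) (c * (-t⁻¹)) ∈ P.B := by
          rw [← hconj, ev]
          have e3 : y * (hG⁻¹ * (xG Δ.hB (D.simple i) t * hw * sG Δ i * xG Δ.hB (D.simple i) t)⁻¹ * hG) =
              b₃ * (xG Δ.hB (D.simple i) t * hw)⁻¹ * hG := by
            rw [eG]; group
          rw [e3]
          exact mul_mem (mul_mem hb₃B (inv_mem (mul_mem hxB hhwB))) (H_le_B P hhGH)
        have hz1 := eq_one_of_mem_B_of_mem_VG Δ (by rw [← hP]; exact hzB) hzV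
        have hy : y = xG Δ.hB (D.neg (D.simple i)) (-(c * (-t⁻¹))) := by
          rw [← xG_inv]
          exact eq_inv_of_mul_eq_one_left hz1
        rw [hy]
        exact xG_mem_XG _ _ _

/-- an automorphism preserving `B` and `V` permutes the negative fundamental root subgroups -/
theorem pres_XG_neg (hD : IsTabulated D) (Δ : BNData D F)
    {θ : ↥(D.group F) ≃* ↥(D.group F)} (hPB : Pres θ Δ.bnPair.B) (hPV : Pres θ (VG D F))
    {i : ℕ} (hi : i < D.rank) :
    ∃ j < D.rank, ∀ y, θ y ∈ XG D F (D.neg (D.simple j)) ↔ y ∈ XG D F (D.neg (D.simple i)) := by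
  obtain ⟨j, hj, h⟩ := exists_perm_parabolic Δ hPB hi
  refine ⟨j, hj, fun y => ?_⟩
  rw [mem_XG_neg_iff hD Δ hj, mem_XG_neg_iff hD Δ hi, hPV y, h y]

end finite

end Cfsg.Agent.Helper2.Aut
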