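import Mathlib
import Cfsg.Agent.Helper2.Aut.Parab

set_option autoImplicit false
set_option linter.unusedSectionVars false
set_option linter.unusedSimpArgs false
set_option linter.unusedVariables false

/-! The positive side: conjugating with the longest element. -/

namespace Cfsg.Agent.Helper2.Aut

open Cfsg.Lie Cfsg.Agent.Helper6 Cfsg.Agent.Helper2.BN

variable {D : ChevalleyDatum} {F : Type*} [Field F]

/-- table facts on the longest word -/
def w0Chk2 (D : ChevalleyDatum) : Bool :=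
  allL (w0Word D) (fun i => Nat.blt i D.rank) &&
  (allLt D.nroots fun s =>
    bif Nat.ble (D.nroots / 2) s then
      Nat.blt (wFoldD D (w0Word D) s) (D.nroots / 2) &&
        Nat.blt (wFoldD D (w0Word D).reverse s) (D.nroots / 2)
    else Nat.ble (D.nroots / 2) (wFoldD D (w0Word D) s) &&
        Nat.ble (D.nroots / 2) (wFoldD D (w0Word D).reverse s)) &&
  (allLt D.rank fun j => anyLt D.rank fun k =>
    Nat.beq (wFoldD D (w0Word D) (D.neg (D.simple j))) (D.simple k) &&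
    Nat.beq (wFoldD D (w0Word D).reverse (D.simple k)) (D.neg (D.simple j))) &&
  (allLt D.rank fun i => anyLt D.rank fun j =>
    Nat.beq (wFoldD D (w0Word D) (D.neg (D.simple j))) (D.simple i) &&
    Nat.beq (wFoldD D (w0Word D).reverse (D.simple i)) (D.neg (D.simple j)))

set_option maxRecDepth 100000 in
theorem w0Chk2_of_tabulated {D : ChevalleyDatum} (hD : IsTabulated D) : w0Chk2 D = true := by
  simp only [IsTabulated, List.mem_cons, List.not_mem_nil, or_false] at hD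
  rcases hD with rfl | rfl | rfl | rfl | rfl | rfl | rfl <;> decide +kernel

/-- distinct fundamental roots: `x_{p_k}` and `x_{-p_j}` commute -/
def commChk (D : ChevalleyDatum) : Bool :=
  allLt D.rank fun k => allLt D.rank fun j => decide (k = j) ||
    (commTermsG (ceF D) (D.simple k) (negF D (D.simple j))).isEmpty

set_option maxRecDepth 100000 in
theorem commChk_of_tabulated {D : ChevalleyDatum} (hD : IsTabulated D) : commChk D = true := by
  simp only [IsTabulated, List.mem_cons, List.not_mem_nil, or_false] at hD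
  rcases hD with rfl | rfl | rfl | rfl | rfl | rfl | rfl <;> decide +kernel

theorem commute_pos_neg (hD : IsTabulated D) (Δ : BNData D F) {k j : ℕ} (hk : k < D.rank)
    (hj : j < D.rank) (hkj : k ≠ j) (a b : F) :
    xG Δ.hB (D.simple k) a * xG Δ.hB (D.neg (D.simple j)) b =
      xG Δ.hB (D.neg (D.simple j)) b * xG Δ.hB (D.simple k) a := by
  have h := commChk_of_tabulated hD
  unfold commChk at h
  rw [ceF_eq Δ.hF.keys Δ.hF.chk, negF_eq Δ.hF.chk, commTermsG_eq] at h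
  simp only [allLt_iff, Bool.or_eq_true, decide_eq_true_eq, List.isEmpty_iff] at h
  have h0 : D.commTerms (D.simple k) (D.neg (D.simple j)) = [] := by
    rcases h k hk j hj with h1 | h1
    · exact absurd h1 hkj
    · exact h1
  have hr := simple_lt Δ hk
  have hs := neg_simple_lt Δ hj
  have h1 : D.neg (D.simple j) ≠ D.simple k := by
    have := Δ.hnp hj
    have := Δ.hpN k hk
    omega
  have h2 : D.neg (D.simple j) ≠ D.neg (D.simple k) := by
    intro e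
    rw [Δ.neg_eq (simple_lt Δ hj), Δ.neg_eq hr] at e
    have hsj := simple_lt Δ hj
    have : D.simple j = D.simple k := by omega
    exact hkj (simple_injective Δ hj hk this).symm
  have hC := Δ.hC _ hr _ hs h1 h2 a b
  apply Subtype.ext
  apply Units.ext
  simp only [Subgroup.coe_mul, xG_coe, Units.val_mul, xU_val]
  rw [hC]
  unfold ChevalleyDatum.commWord
  rw [h0]
  simp [ChevalleyDatum.wordMat]

/-- the table facts in usable form -/
structure W0Data (D : ChevalleyDatum) : Prop where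
  hL : ∀ i ∈ w0Word D, i < D.rank
  pos_neg : ∀ s < D.nroots, D.nroots / 2 ≤ s →
    wFold D (w0Word D) s < D.nroots / 2 ∧ wFold D (w0Word D).reverse s < D.nroots / 2
  neg_pos : ∀ s < D.nroots, s < D.nroots / 2 →
    D.nroots / 2 ≤ wFold D (w0Word D) s ∧ D.nroots / 2 ≤ wFold D (w0Word D).reverse s
  simp1 : ∀ j < D.rank, ∃ k < D.rank, wFold D (w0Word D) (D.neg (D.simple j)) = D.simple k ∧
    wFold D (w0Word D).reverse (D.simple k) = D.neg (D.simple j)
  simp2 : ∀ i < D.rank, ∃ j < D.rank, wFold D (w0Word D) (D.neg (D.simple j)) = D.simple i ∧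
    wFold D (w0Word D).reverse (D.simple i) = D.neg (D.simple j)

theorem w0Data_of_tabulated (hD : IsTabulated D) (Δ : BNData D F) : W0Data D := by
  have h := w0Chk2_of_tabulated hD
  simp only [w0Chk2, Bool.and_eq_true, allL_iff, allLt_iff, anyLt_iff, Nat.blt_eq, Nat.beq_eq,
    Nat.ble_eq] at h
  obtain ⟨⟨⟨hL, h2⟩, h3⟩, h4⟩ := h
  have hLr : ∀ i ∈ (w0Word D).reverse, i < D.rank := fun i hi => hL i (List.mem_reverse.1 hi)
  have e1 : ∀ s < D.nroots, wFoldD D (w0Word D) s = wFold D (w0Word D) s := fun s hs =>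
    wFoldD_eq Δ.hB Δ.hF Δ.hn Δ.hAll hL hs
  have e2 : ∀ s < D.nroots, wFoldD D (w0Word D).reverse s = wFold D (w0Word D).reverse s :=
    fun s hs => wFoldD_eq Δ.hB Δ.hF Δ.hn Δ.hAll hLr hs
  refine ⟨hL, ?_, ?_, ?_, ?_⟩
  · intro s hs hN
    have := h2 s hs
    rw [show Nat.ble (D.nroots / 2) s = true from Nat.ble_eq ▸ hN, cond_true, Bool.and_eq_true,
      Nat.blt_eq, Nat.blt_eq, e1 s hs, e2 s hs] at this
    exact this
  · intro s hs hN
    have := h2 s hs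
    have hf : Nat.ble (D.nroots / 2) s = false := by
      rw [← Bool.not_eq_true, Nat.ble_eq]; omega
    rw [hf, cond_false, Bool.and_eq_true, Nat.ble_eq, Nat.ble_eq, e1 s hs, e2 s hs] at this
    exact this
  · intro j hj
    obtain ⟨k, hk, hk1, hk2⟩ := h3 j hj
    rw [e1 _ (neg_simple_lt Δ hj)] at hk1
    rw [e2 _ (simple_lt Δ hk)] at hk2
    exact ⟨k, hk, hk1, hk2⟩
  · intro i hi
    obtain ⟨j, hj, hj1, hj2⟩ := h4 i hi
    rw [e1 _ (neg_simple_lt Δ hj)] at hj1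
    rw [e2 _ (simple_lt Δ hi)] at hj2
    exact ⟨j, hj, hj1, hj2⟩

section abstract

variable {G : Type*} [Group G]

/-- `θ` transported by conjugation with `n` -/
def cjB (n : G) (θ : G ≃* G) : G ≃* G := (MulAut.conj n).trans (θ.trans (MulAut.conj n⁻¹))

theorem cjB_apply (n : G) (θ : G ≃* G) (y : G) : cjB n θ y = n⁻¹ * θ (n * y * n⁻¹) * n := by
  simp [cjB, MulAut.conj_apply]

end abstract

section w0

variable (Δ : BNData D F) (W : W0Data D)
include Δ W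

theorem n0_conj_U {w : GL D.Idx F} (hw : w ∈ D.posUnipotent F) :
    nW Δ.hB F (w0Word D) * w * (nW Δ.hB F (w0Word D))⁻¹ ∈ D.negUnipotent F := by
  unfold ChevalleyDatum.posUnipotent at hw
  refine conj_closure_mem _ ?_ w hw
  rintro g ⟨r, t, hr, hg⟩
  have e : g = xU Δ.hB r t := Units.ext (by rw [hg, xU_val])
  obtain ⟨t', ht'⟩ := nW_conj (F := F) Δ.hB Δ.hAll W.hL hr.1 t
  rw [e, ht']
  have hlt := wFold_lt Δ.hB Δ.hAll W.hL hr.1
  exact Δ.xU_neg_mem (((Δ.hsign _ hlt).2).2 (W.pos_neg r hr.1 ((Δ.hsign' r hr.1).1 hr)).1) _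

theorem n0_conj_V {w : GL D.Idx F} (hw : w ∈ D.negUnipotent F) :
    nW Δ.hB F (w0Word D) * w * (nW Δ.hB F (w0Word D))⁻¹ ∈ D.posUnipotent F := by
  unfold ChevalleyDatum.negUnipotent at hw
  refine conj_closure_mem _ ?_ w hw
  rintro g ⟨r, t, hr, hg⟩
  have e : g = xU Δ.hB r t := Units.ext (by rw [hg, xU_val])
  obtain ⟨t', ht'⟩ := nW_conj (F := F) Δ.hB Δ.hAll W.hL hr.1 t
  rw [e, ht']
  have hlt := wFold_lt Δ.hB Δ.hAll W.hL hr.1
  exact Δ.xU_pos_mem ((Δ.hsign' _ hlt).2 (W.neg_pos r hr.1 (((Δ.hsign r hr.1).2).1 hr)).1) _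

theorem n0_inv_conj_U {w : GL D.Idx F} (hw : w ∈ D.posUnipotent F) :
    (nW Δ.hB F (w0Word D))⁻¹ * w * nW Δ.hB F (w0Word D) ∈ D.negUnipotent F := by
  unfold ChevalleyDatum.posUnipotent at hw
  have key := conj_closure_mem (K := D.negUnipotent F) (nW Δ.hB F (w0Word D))⁻¹ ?_ w hw
  · rw [inv_inv] at key; exact key
  rintro g ⟨r, t, hr, hg⟩
  have e : g = xU Δ.hB r t := Units.ext (by rw [hg, xU_val])
  obtain ⟨t', ht'⟩ := nW_inv_conj (F := F) Δ.hB Δ.hAll W.hL hr.1 t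
  rw [e, inv_inv, ht']
  have hLr : ∀ i ∈ (w0Word D).reverse, i < D.rank := fun i hi => W.hL i (List.mem_reverse.1 hi)
  have hlt := wFold_lt Δ.hB Δ.hAll hLr hr.1
  exact Δ.xU_neg_mem (((Δ.hsign _ hlt).2).2 (W.pos_neg r hr.1 ((Δ.hsign' r hr.1).1 hr)).2) _

theorem n0_inv_conj_V {w : GL D.Idx F} (hw : w ∈ D.negUnipotent F) :
    (nW Δ.hB F (w0Word D))⁻¹ * w * nW Δ.hB F (w0Word D) ∈ D.posUnipotent F := by
  unfold ChevalleyDatum.negUnipotent at hw
  have key := conj_closure_mem (K := D.posUnipotent F) (nW Δ.hB F (w0Word D))⁻¹ ?_ w hw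
  · rw [inv_inv] at key; exact key
  rintro g ⟨r, t, hr, hg⟩
  have e : g = xU Δ.hB r t := Units.ext (by rw [hg, xU_val])
  obtain ⟨t', ht'⟩ := nW_inv_conj (F := F) Δ.hB Δ.hAll W.hL hr.1 t
  rw [e, inv_inv, ht']
  have hLr : ∀ i ∈ (w0Word D).reverse, i < D.rank := fun i hi => W.hL i (List.mem_reverse.1 hi)
  have hlt := wFold_lt Δ.hB Δ.hAll hLr hr.1
  exact Δ.xU_pos_mem ((Δ.hsign' _ hlt).2 (W.neg_pos r hr.1 (((Δ.hsign r hr.1).2).1 hr)).2) _

/-- the longest element in `G` -/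
def n0G : ↥(D.group F) :=
  ⟨nW Δ.hB F (w0Word D), Δ.monomial_le_group (nW_mem_monomial Δ.hB Δ.hAll W.hL)⟩

theorem n0G_coe : ((n0G Δ W : ↥(D.group F)) : GL D.Idx F) = nW Δ.hB F (w0Word D) := rfl

theorem mem_UG_iff_n0 (y : ↥(D.group F)) :
    y ∈ UG D F ↔ n0G Δ W * y * (n0G Δ W)⁻¹ ∈ VG D F := by
  rw [mem_UG, mem_VG]
  simp only [Subgroup.coe_mul, Subgroup.coe_inv, n0G_coe]
  constructor
  · exact n0_conj_U Δ W
  · intro h
    have := n0_inv_conj_V Δ W h
    have e : (nW Δ.hB F (w0Word D))⁻¹ * (nW Δ.hB F (w0Word D) * (y : GL D.Idx F) *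
        (nW Δ.hB F (w0Word D))⁻¹) * nW Δ.hB F (w0Word D) = (y : GL D.Idx F) := by group
    rw [e] at this
    exact this

theorem mem_VG_iff_n0 (y : ↥(D.group F)) :
    y ∈ VG D F ↔ n0G Δ W * y * (n0G Δ W)⁻¹ ∈ UG D F := by
  rw [mem_UG, mem_VG]
  simp only [Subgroup.coe_mul, Subgroup.coe_inv, n0G_coe]
  constructor
  · exact n0_conj_V Δ W
  · intro h
    have := n0_inv_conj_U Δ W h
    have e : (nW Δ.hB F (w0Word D))⁻¹ * (nW Δ.hB F (w0Word D) * (y : GL D.Idx F) *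
        (nW Δ.hB F (w0Word D))⁻¹) * nW Δ.hB F (w0Word D) = (y : GL D.Idx F) := by group
    rw [e] at this
    exact this

/-- conjugation with `n₀` carries `X_a` onto `X_b` when the word does -/
theorem mem_XG_iff_n0 {a b : ℕ} (ha : a < D.nroots) (hb : b < D.nroots)
    (h1 : wFold D (w0Word D) a = b) (h2 : wFold D (w0Word D).reverse b = a)
    (y : ↥(D.group F)) :
    y ∈ XG D F a ↔ n0G Δ W * y * (n0G Δ W)⁻¹ ∈ XG D F b := by
  constructor
  · intro hy
    obtain ⟨t, rfl⟩ := (mem_XG Δ.hB).1 hy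
    obtain ⟨t', ht'⟩ := nW_conj (F := F) Δ.hB Δ.hAll W.hL ha t
    rw [mem_XG Δ.hB]
    refine ⟨t', Subtype.ext ?_⟩
    simp only [Subgroup.coe_mul, Subgroup.coe_inv, n0G_coe, xG_coe]
    rw [ht', h1]
  · intro hy
    obtain ⟨t, ht⟩ := (mem_XG Δ.hB).1 hy
    obtain ⟨t', ht'⟩ := nW_inv_conj (F := F) Δ.hB Δ.hAll W.hL hb t
    rw [mem_XG Δ.hB]
    refine ⟨t', Subtype.ext ?_⟩
    have e : (y : GL D.Idx F) = (nW Δ.hB F (w0Word D))⁻¹ *
        ((n0G Δ W * y * (n0G Δ W)⁻¹ : ↥(D.group F)) : GL D.Idx F) * nW Δ.hB F (w0Word D) := by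
      simp only [Subgroup.coe_mul, Subgroup.coe_inv, n0G_coe]
      group
    rw [e, ht, xG_coe, ht', h2, xG_coe]

theorem pres_cjB_UG {θ : ↥(D.group F) ≃* ↥(D.group F)} (hV : Pres θ (VG D F)) :
    Pres (cjB (n0G Δ W) θ) (UG D F) := by
  intro y
  rw [cjB_apply, mem_UG_iff_n0 Δ W, mem_UG_iff_n0 Δ W y]
  have e : n0G Δ W * ((n0G Δ W)⁻¹ * θ (n0G Δ W * y * (n0G Δ W)⁻¹) * n0G Δ W) * (n0G Δ W)⁻¹ =
      θ (n0G Δ W * y * (n0G Δ W)⁻¹) := by group
  rw [e, hV]

theorem pres_cjB_VG {θ : ↥(D.group F) ≃* ↥(D.group F)} (hU : Pres θ (UG D F)) :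
    Pres (cjB (n0G Δ W) θ) (VG D F) := by
  intro y
  rw [cjB_apply, mem_VG_iff_n0 Δ W, mem_VG_iff_n0 Δ W y]
  have e : n0G Δ W * ((n0G Δ W)⁻¹ * θ (n0G Δ W * y * (n0G Δ W)⁻¹) * n0G Δ W) * (n0G Δ W)⁻¹ =
      θ (n0G Δ W * y * (n0G Δ W)⁻¹) := by group
  rw [e, hU]

end w0

section finite

variable [Finite F]

/-- an automorphism preserving `U` and `V` permutes the positive fundamental root subgroups -/
theorem pres_XG_pos (hD : IsTabulated D) (Δ : BNData D F)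
    {θ : ↥(D.group F) ≃* ↥(D.group F)} (hPU : Pres θ (UG D F)) (hPV : Pres θ (VG D F))
    {i : ℕ} (hi : i < D.rank) :
    ∃ k < D.rank, ∀ y, θ y ∈ XG D F (D.simple k) ↔ y ∈ XG D F (D.simple i) := by
  have W := w0Data_of_tabulated hD Δ
  obtain ⟨j, hj, hj1, hj2⟩ := W.simp2 i hi
  have hψU := pres_cjB_UG Δ W hPV
  have hψV := pres_cjB_VG Δ W hPU
  have hψB := pres_B hD Δ hψU
  obtain ⟨j', hj', hψ⟩ := pres_XG_neg hD Δ hψB hψV hj
  obtain ⟨k, hk, hk1, hk2⟩ := W.simp1 j' hj'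
  refine ⟨k, hk, fun y => ?_⟩
  have c1 := mem_XG_iff_n0 Δ W (neg_simple_lt Δ hj) (simple_lt Δ hi) hj1 hj2
  have c2 := mem_XG_iff_n0 Δ W (neg_simple_lt Δ hj') (simple_lt Δ hk) hk1 hk2
  -- `y' = n₀⁻¹ y n₀`
  have e1 : y = n0G Δ W * ((n0G Δ W)⁻¹ * y * n0G Δ W) * (n0G Δ W)⁻¹ := by group
  have e2 : θ y = n0G Δ W * (cjB (n0G Δ W) θ ((n0G Δ W)⁻¹ * y * n0G Δ W)) * (n0G Δ W)⁻¹ := by
    rw [cjB_apply, ← e1]; group
  rw [e2, ← c2, hψ, c1, ← e1]

/-- the two permutations agree -/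
theorem exists_perm_index (hD : IsTabulated D) (Δ : BNData D F)
    {θ : ↥(D.group F) ≃* ↥(D.group F)} (hPU : Pres θ (UG D F)) (hPV : Pres θ (VG D F))
    {i : ℕ} (hi : i < D.rank) :
    ∃ k < D.rank, (∀ y, θ y ∈ XG D F (D.simple k) ↔ y ∈ XG D F (D.simple i)) ∧
      (∀ y, θ y ∈ XG D F (D.neg (D.simple k)) ↔ y ∈ XG D F (D.neg (D.simple i))) := by
  have hPB := pres_B hD Δ hPU
  obtain ⟨k, hk, h1⟩ := pres_XG_pos hD Δ hPU hPV hi
  obtain ⟨j, hj, h2⟩ := pres_XG_neg hD Δ hPB hPV hi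
  refine ⟨k, hk, h1, ?_⟩
  by_cases hkj : k = j
  · rw [hkj]; exact h2
  exfalso
  obtain ⟨a, ha⟩ := (mem_XG Δ.hB).1 ((h1 _).2 (xG_mem_XG Δ.hB (D.simple i) 1))
  obtain ⟨b, hb⟩ := (mem_XG Δ.hB).1 ((h2 _).2 (xG_mem_XG Δ.hB (D.neg (D.simple i)) 1))
  -- the images commute
  have hcomm : xG Δ.hB (D.simple k) a * xG Δ.hB (D.neg (D.simple j)) b =
      xG Δ.hB (D.neg (D.simple j)) b * xG Δ.hB (D.simple k) a :=
    commute_pos_neg hD Δ hk hj hkj a b
  obtain ⟨φ, hφu, hφl⟩ := exists_phi (F := F) hD Δ.hB (simple_lt Δ hi)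
  apply not_commute_pm Δ (isPos_simple Δ hi) φ hφu hφl
  have e : θ (xG Δ.hB (D.simple i) 1 * xG Δ.hB (D.neg (D.simple i)) 1) =
      θ (xG Δ.hB (D.neg (D.simple i)) 1 * xG Δ.hB (D.simple i) 1) := by
    rw [map_mul, map_mul, ha, hb, hcomm]
  exact congrArg Subtype.val (θ.injective e)

/-- an automorphism preserving `U` and `V` permutes the fundamental root subgroups (and their
negatives) by a permutation of the nodes -/
theorem exists_perm (hD : IsTabulated D) (Δ : BNData D F)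
    {θ : ↥(D.group F) ≃* ↥(D.group F)} (hPU : Pres θ (UG D F)) (hPV : Pres θ (VG D F)) :
    ∃ π : Equiv.Perm (Fin D.rank), ∀ i : Fin D.rank,
      (∀ y, θ y ∈ XG D F (D.simple (π i)) ↔ y ∈ XG D F (D.simple i)) ∧
      (∀ y, θ y ∈ XG D F (D.neg (D.simple (π i))) ↔ y ∈ XG D F (D.neg (D.simple i))) := by
  have h := fun i : Fin D.rank => exists_perm_index hD Δ hPU hPV i.2
  choose k hk h1 h2 using h
  have hinj : Function.Injective (fun i : Fin D.rank => (⟨k i, hk i⟩ : Fin D.rank)) := by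
    intro i i' hii
    have hkk : k i = k i' := congrArg Fin.val hii
    have hm : xG Δ.hB (D.simple i) (1 : F) ∈ XG D F (D.simple i') := by
      rw [← h1 i', ← hkk, h1 i]
      exact xG_mem_XG _ _ _
    obtain ⟨c, hc⟩ := (mem_XG Δ.hB).1 hm
    have := Cfsg.Agent.Helper2.HRoot.root_unique hD Δ (Δ.hpN i' i'.2) (simple_lt Δ i'.2)
      (simple_lt Δ i.2) (one_ne_zero (α := F)) (congrArg Subtype.val hc)
    exact Fin.ext (simple_injective Δ i.2 i'.2 this)
  refine ⟨Equiv.ofBijective _ ⟨hinj, Finite.injective_iff_surjective.1 hinj⟩, fun i => ?_⟩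
  exact ⟨h1 i, h2 i⟩

end finite

end Cfsg.Agent.Helper2.Aut
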