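import Mathlib
import Cfsg.Agent.Helper2.Aut.Parab2

set_option autoImplicit false
set_option linter.unusedSectionVars false
set_option linter.unusedSimpArgs false
set_option linter.unusedVariables false

/-! The functions describing a normalised automorphism on the fundamental root elements. -/

namespace Cfsg.Agent.Helper2.Aut

open Cfsg.Lie Cfsg.Agent.Helper6 Cfsg.Agent.Helper2.BN

variable {D : ChevalleyDatum} {F : Type*} [Field F]

/-- `θ` maps `x_{±p_i}(t)` to `x_{±p_{π i}}(f_i t)`, resp. `g_i t` -/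
structure Shape (Δ : BNData D F) (θ : ↥(D.group F) ≃* ↥(D.group F))
    (π : Equiv.Perm (Fin D.rank)) (f g : Fin D.rank → F → F) : Prop where
  pos : ∀ (i : Fin D.rank) (t : F), θ (xG Δ.hB (D.simple i) t) = xG Δ.hB (D.simple (π i)) (f i t)
  neg : ∀ (i : Fin D.rank) (t : F), θ (xG Δ.hB (D.neg (D.simple i)) t) = xG Δ.hB (D.neg (D.simple (π i))) (g i t)

theorem exists_shape [Finite F] (hD : IsTabulated D) (Δ : BNData D F)
    {θ : ↥(D.group F) ≃* ↥(D.group F)} (hPU : Pres θ (UG D F)) (hPV : Pres θ (VG D F)) :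
    ∃ π f g, Shape Δ θ π f g := by
  obtain ⟨π, hπ⟩ := exists_perm hD Δ hPU hPV
  have h1 : ∀ (i : Fin D.rank) (t : F), ∃ a : F,
      θ (xG Δ.hB (D.simple i) t) = xG Δ.hB (D.simple (π i)) a := fun i t =>
    (mem_XG Δ.hB).1 (((hπ i).1 _).2 (xG_mem_XG _ _ _))
  have h2 : ∀ (i : Fin D.rank) (t : F), ∃ a : F,
      θ (xG Δ.hB (D.neg (D.simple i)) t) = xG Δ.hB (D.neg (D.simple (π i))) a := fun i t =>
    (mem_XG Δ.hB).1 (((hπ i).2 _).2 (xG_mem_XG _ _ _))
  choose f hf using h1
  choose g hg using h2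
  exact ⟨π, f, g, ⟨hf, hg⟩⟩

namespace Shape

variable {Δ : BNData D F} {θ : ↥(D.group F) ≃* ↥(D.group F)} {π : Equiv.Perm (Fin D.rank)}
  {f g : Fin D.rank → F → F} (S : Shape Δ θ π f g)
include S

theorem f_add (i : Fin D.rank) (t u : F) : f i (t + u) = f i t + f i u := by
  apply xG_inj Δ (simple_lt Δ (π i).2)
  rw [← S.pos, ← xG_mul, map_mul, S.pos, S.pos, xG_mul]

theorem g_add (i : Fin D.rank) (t u : F) : g i (t + u) = g i t + g i u := by
  apply xG_inj Δ (neg_simple_lt Δ (π i).2)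
  rw [← S.neg, ← xG_mul, map_mul, S.neg, S.neg, xG_mul]

theorem f_zero (i : Fin D.rank) : f i 0 = 0 := by
  have := S.f_add i 0 0
  rw [add_zero] at this
  exact left_eq_add.1 this

theorem g_zero (i : Fin D.rank) : g i 0 = 0 := by
  have := S.g_add i 0 0
  rw [add_zero] at this
  exact left_eq_add.1 this

theorem f_neg (i : Fin D.rank) (t : F) : f i (-t) = - f i t := by
  have := S.f_add i t (-t)
  rw [add_neg_cancel, S.f_zero] at this
  exact eq_neg_of_add_eq_zero_right this.symm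

theorem g_neg (i : Fin D.rank) (t : F) : g i (-t) = - g i t := by
  have := S.g_add i t (-t)
  rw [add_neg_cancel, S.g_zero] at this
  exact eq_neg_of_add_eq_zero_right this.symm

theorem f_eq_zero (i : Fin D.rank) {t : F} (h : f i t = 0) : t = 0 := by
  have h1 := S.pos i t
  rw [h, xG_zero] at h1
  have h2 : xG Δ.hB (D.simple i) t = 1 := by
    apply θ.injective; rw [h1, map_one]
  exact (xG_eq_one_iff Δ (simple_lt Δ i.2)).1 h2

theorem g_eq_zero (i : Fin D.rank) {t : F} (h : g i t = 0) : t = 0 := by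
  have h1 := S.neg i t
  rw [h, xG_zero] at h1
  have h2 : xG Δ.hB (D.neg (D.simple i)) t = 1 := by
    apply θ.injective; rw [h1, map_one]
  exact (xG_eq_one_iff Δ (neg_simple_lt Δ i.2)).1 h2

theorem f_injective (i : Fin D.rank) : Function.Injective (f i) := by
  intro a b hab
  have : f i (a - b) = 0 := by rw [sub_eq_add_neg, S.f_add, S.f_neg, hab, add_neg_cancel]
  exact sub_eq_zero.1 (S.f_eq_zero i this)

theorem f_surjective [Finite F] (i : Fin D.rank) : Function.Surjective (f i) :=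
  Finite.injective_iff_surjective.1 (S.f_injective i)

/-- the rank one relation -/
theorem rank_one (hD : IsTabulated D) (i : Fin D.rank) {t : F} (ht : t ≠ 0) :
    f i t * g i (-t⁻¹) = -1 := by
  obtain ⟨φ, hφu, hφl⟩ := exists_phi (F := F) hD Δ.hB (simple_lt Δ i.2)
  obtain ⟨φ', hφu', hφl'⟩ := exists_phi (F := F) hD Δ.hB (simple_lt Δ (π i).2)
  have h1 := nword_conj Δ (isPos_simple Δ i.2) φ hφu hφl ht (1 : F)
  -- lift to `G` and apply `θ`
  have h2 : (xG Δ.hB (D.simple i) t * xG Δ.hB (D.neg (D.simple i)) (-t⁻¹) *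
      xG Δ.hB (D.simple i) t) * xG Δ.hB (D.simple i) 1 *
      (xG Δ.hB (D.simple i) t * xG Δ.hB (D.neg (D.simple i)) (-t⁻¹) *
      xG Δ.hB (D.simple i) t)⁻¹ = xG Δ.hB (D.neg (D.simple i)) (-(t⁻¹) ^ 2 * 1) := by
    apply Subtype.ext
    simp only [Subgroup.coe_mul, Subgroup.coe_inv, xG_coe]
    exact h1
  have h3 := congrArg θ h2
  simp only [map_mul, map_inv, S.pos, S.neg] at h3
  have h4 := congrArg Subtype.val h3
  simp only [Subgroup.coe_mul, Subgroup.coe_inv, xG_coe] at h4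
  have hf1 : f i 1 ≠ 0 := fun h => one_ne_zero (S.f_eq_zero i h)
  apply mul_eq_neg_one_of_conj Δ (isPos_simple Δ (π i).2) φ' hφu' hφl' hf1
  rw [h4]
  exact Δ.xU_neg_mem (isNeg_neg_simple Δ (π i).2) _

end Shape

end Cfsg.Agent.Helper2.Aut
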