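import Mathlib
import Cfsg.Agent.Helper2.Aut.Basic
import Cfsg.Agent.Helper2.Levi.B
import Cfsg.Agent.Helper11.ChevCharDiag

set_option autoImplicit false
set_option linter.unusedSectionVars false
set_option linter.unusedSimpArgs false
set_option linter.unusedVariables false

/-! Root characters with prescribed values on the fundamental roots, and the diagonal
automorphisms they define. -/

namespace Cfsg.Agent.Helper2.Aut

open Cfsg.Lie Cfsg.Agent.Helper6 Cfsg.Agent.Helper2.Levi

variable {D : ChevalleyDatum} {F : Type*} [Field F]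

/-- the matrix `det(A) A⁻¹` by type -/
def cTab (D : ChevalleyDatum) : List (List ℤ) :=
  if D.nroots = 12 then cG2 else if D.nroots = 8 then cB2 else if D.nroots = 24 then cD4
  else if D.nroots = 48 then cF4 else if D.nroots = 72 then cE6 else if D.nroots = 126 then cE7
  else cE8

/-- the scaling factor of `cTab` by type -/
def cDet (D : ChevalleyDatum) : ℤ :=
  if D.nroots = 12 then 1 else if D.nroots = 8 then 2 else if D.nroots = 24 then 2
  else if D.nroots = 48 then 1 else if D.nroots = 72 then 3 else if D.nroots = 126 then 2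
  else 1

/-- the scaled coordinates are divisible by the determinant, and the fundamental roots have the
expected coordinates -/
def rcChk (D : ChevalleyDatum) : Bool :=
  (allLt D.nroots fun r => allLt D.rank fun k => decide (coord D (cTab D) k r % cDet D = 0)) &&
  (allLt D.rank fun i => allLt D.rank fun k =>
    decide (coord D (cTab D) k (D.simple i) = if k = i then cDet D else 0)) &&
  decide (cDet D ≠ 0)

set_option maxRecDepth 100000 in
theorem rcChk_of_tabulated {D : ChevalleyDatum} (hD : IsTabulated D) : rcChk D = true := by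
  simp only [IsTabulated, List.mem_cons, List.not_mem_nil, or_false] at hD
  rcases hD with rfl | rfl | rfl | rfl | rfl | rfl | rfl <;> decide +kernel

/-- the coordinate of the root `r` at the fundamental root `p_k` -/
def mC (D : ChevalleyDatum) (k r : ℕ) : ℤ := coord D (cTab D) k r / cDet D

section coords

variable (hD : IsTabulated D) (Δ : BNData D F)
include hD Δ

theorem coord_dvd {r : ℕ} (hr : r < D.nroots) {k : ℕ} (hk : k < D.rank) :
    cDet D ∣ coord D (cTab D) k r := by
  have h := rcChk_of_tabulated hD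
  simp only [rcChk, Bool.and_eq_true, allLt_iff, decide_eq_true_eq] at h
  exact Int.dvd_of_emod_eq_zero (h.1.1 r hr k hk)

theorem cDet_ne : cDet D ≠ 0 := by
  have h := rcChk_of_tabulated hD
  simp only [rcChk, Bool.and_eq_true, allLt_iff, decide_eq_true_eq] at h
  exact h.2

theorem mC_simple {i : ℕ} (hi : i < D.rank) {k : ℕ} (hk : k < D.rank) :
    mC D k (D.simple i) = if k = i then 1 else 0 := by
  have h := rcChk_of_tabulated hD
  simp only [rcChk, Bool.and_eq_true, allLt_iff, decide_eq_true_eq] at h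
  unfold mC
  rw [h.1.2 i hi k hk]
  split_ifs
  · exact Int.ediv_self (cDet_ne hD Δ)
  · exact Int.zero_ediv _

theorem mC_neg {r : ℕ} (hr : r < D.nroots) {k : ℕ} (hk : k < D.rank) :
    mC D k (D.neg r) = - mC D k r := by
  unfold mC
  have h := coord_lin (D := D) (cTab D) k (q := D.neg r) (r := r) (s := r) (a := -1) (b := 0)
    (fun i hi => by rw [(Δ.hB.negTab r hr).1 i hi]; ring)
  have e : coord D (cTab D) k (D.neg r) = - coord D (cTab D) k r := by rw [h]; ring
  rw [e, Int.neg_ediv_of_dvd (coord_dvd hD Δ hr hk)]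

theorem mC_add {r s q : ℕ} (hr : r < D.nroots) (hs : s < D.nroots)
    (h : D.chainRoot r s 1 = some q) {k : ℕ} (hk : k < D.rank) :
    mC D k q = mC D k r + mC D k s := by
  unfold mC
  obtain ⟨hq, hc⟩ := chainRoot_spec Δ.hB Δ.hAdd hr s 0 h
  have h1 := coord_lin (D := D) (cTab D) k (q := q) (r := r) (s := s) (a := 1) (b := 1)
    (fun i hi => by rw [hc i hi]; push_cast; ring)
  have e : coord D (cTab D) k q = coord D (cTab D) k r + coord D (cTab D) k s := by rw [h1]; ring
  rw [e, Int.add_ediv_of_dvd_left (coord_dvd hD Δ hr hk)]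

end coords

/-- the character of the root lattice with values `a k` on the fundamental roots -/
noncomputable def rootChar (D : ChevalleyDatum) (a : ℕ → Fˣ) (r : ℕ) : Fˣ :=
  ∏ k ∈ Finset.range D.rank, a k ^ mC D k r

theorem isRootCharacter_rootChar (hD : IsTabulated D) (Δ : BNData D F) (a : ℕ → Fˣ) :
    D.IsRootCharacter (rootChar D a) := by
  refine ⟨fun r hr => ?_, fun r s k hr hs h => ?_⟩
  · unfold rootChar
    rw [← Finset.prod_inv_distrib]
    apply Finset.prod_congr rfl
    intro k hk
    rw [mC_neg hD Δ hr (Finset.mem_range.1 hk), zpow_neg]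
  · unfold rootChar
    rw [← Finset.prod_mul_distrib]
    apply Finset.prod_congr rfl
    intro j hj
    rw [mC_add hD Δ hr hs h (Finset.mem_range.1 hj), zpow_add]

theorem rootChar_simple (hD : IsTabulated D) (Δ : BNData D F) (a : ℕ → Fˣ) {i : ℕ}
    (hi : i < D.rank) : rootChar D a (D.simple i) = a i := by
  unfold rootChar
  rw [Finset.prod_eq_single i]
  · rw [mC_simple hD Δ hi hi, if_pos rfl, zpow_one]
  · intro k hk hki
    rw [mC_simple hD Δ hi (Finset.mem_range.1 hk), if_neg hki, zpow_zero]
  · intro h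
    exact absurd (Finset.mem_range.2 hi) h

/-- the diagonal matrix of a function on the roots as a unit -/
def dU (D : ChevalleyDatum) (F : Type*) [Field F] (χ : ℕ → Fˣ) : GL D.Idx F :=
  ⟨D.charDiag F χ, D.charDiag F (fun r => (χ r)⁻¹),
    Cfsg.Agent.Helper11.ChevCharDiag.charDiag_mul_inv χ, by
      have := Cfsg.Agent.Helper11.ChevCharDiag.charDiag_mul_inv (D := D) (F := F)
        (fun r => (χ r)⁻¹)
      simpa only [inv_inv] using this⟩

theorem dU_val (χ : ℕ → Fˣ) : ((dU D F χ : GL D.Idx F) : Matrix D.Idx D.Idx F) = D.charDiag F χ :=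
  rfl

theorem dU_inv_val (χ : ℕ → Fˣ) :
    (((dU D F χ)⁻¹ : GL D.Idx F) : Matrix D.Idx D.Idx F) = D.charDiag F (fun r => (χ r)⁻¹) := rfl

/-- conjugation by a unit with matrix `ĥ(χ)` preserves the Chevalley group -/
theorem conj_mem_group (hB : BasicOK D) {d : GL D.Idx F} {χ : ℕ → Fˣ} (hχ : D.IsRootCharacter χ)
    (hd : (d : Matrix D.Idx D.Idx F) = D.charDiag F χ) {g : GL D.Idx F} (hg : g ∈ D.group F) :
    d * g * d⁻¹ ∈ D.group F := by
  unfold ChevalleyDatum.group at hg
  refine conj_closure_mem d ?_ g hg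
  rintro y ⟨r, t, hy⟩
  have e : y = xU hB r.val t := Units.ext (by rw [hy, xU_val, x_of_lt r.2])
  rw [e, Cfsg.Agent.Helper11.ChevCharDiag.conj_xU hB hχ hd r.2 t]
  exact xU_mem_group hB r.2 _

/-- the diagonal automorphism attached to a root character -/
def diagAut (hB : BasicOK D) (χ : ℕ → Fˣ) (hχ : D.IsRootCharacter χ) :
    ↥(D.group F) ≃* ↥(D.group F) where
  toFun y := ⟨dU D F χ * y * (dU D F χ)⁻¹, conj_mem_group hB hχ (dU_val χ) y.2⟩
  invFun y := ⟨(dU D F χ)⁻¹ * y * dU D F χ, by
    have := conj_mem_group hB (Cfsg.Agent.Helper11.ChevCharDiag.isRootCharacter_inv hχ)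
      (dU_inv_val χ) y.2
    rwa [inv_inv] at this⟩
  left_inv y := by apply Subtype.ext; simp only []; group
  right_inv y := by apply Subtype.ext; simp only []; group
  map_mul' y z := by apply Subtype.ext; simp only [Subgroup.coe_mul]; group

theorem diagAut_coe (hB : BasicOK D) (χ : ℕ → Fˣ) (hχ : D.IsRootCharacter χ) (y : ↥(D.group F)) :
    ((diagAut hB χ hχ y : ↥(D.group F)) : GL D.Idx F) = dU D F χ * y * (dU D F χ)⁻¹ := rfl

theorem diagAut_xG (hB : BasicOK D) (χ : ℕ → Fˣ) (hχ : D.IsRootCharacter χ) {r : ℕ}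
    (hr : r < D.nroots) (t : F) :
    diagAut hB χ hχ (xG hB r t) = xG hB r (((χ r : Fˣ) : F) * t) := by
  apply Subtype.ext
  rw [diagAut_coe, xG_coe, xG_coe]
  exact Cfsg.Agent.Helper11.ChevCharDiag.conj_xU hB hχ (dU_val χ) hr t

theorem isDiagonalAut_diagAut (hB : BasicOK D) (χ : ℕ → Fˣ) (hχ : D.IsRootCharacter χ) :
    D.IsDiagonalAut (diagAut (F := F) hB χ hχ) := by
  refine ⟨χ, hχ, fun g => ?_⟩
  rw [diagAut_coe, Units.val_mul, Units.val_mul, dU_val, dU_inv_val]

end Cfsg.Agent.Helper2.Aut
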