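import Mathlib
import Cfsg.Agent.Helper2.Aut.Fun
import Cfsg.Agent.Helper2.Aut.RootChar
import Cfsg.Agent.S1032

set_option autoImplicit false
set_option linter.unusedSectionVars false
set_option linter.unusedSimpArgs false
set_option linter.unusedVariables false

/-! Diagonal normalisation `f_i(1) = 1` and the relations coming from the torus. -/

namespace Cfsg.Agent.Helper2.Aut

open Cfsg.Lie Cfsg.Agent.Helper6 Cfsg.Agent.Helper2.BN

variable {D : ChevalleyDatum} {F : Type*} [Field F]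

/-- after composing with a diagonal automorphism, `f_i(1) = 1` -/
theorem exists_diag_normalize (hD : IsTabulated D) {Δ : BNData D F}
    {θ : ↥(D.group F) ≃* ↥(D.group F)} {π : Equiv.Perm (Fin D.rank)}
    {f g : Fin D.rank → F → F} (S : Shape Δ θ π f g) :
    ∃ (a : ℕ → Fˣ) (f' g' : Fin D.rank → F → F),
      Shape Δ (θ.trans (diagAut Δ.hB (rootChar D a) (isRootCharacter_rootChar hD Δ a))) π f' g' ∧
        ∀ i, f' i 1 = 1 := by
  have hf1 : ∀ i, f i 1 ≠ 0 := fun i h => one_ne_zero (S.f_eq_zero i h)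
  obtain ⟨a, ha⟩ : ∃ a : ℕ → Fˣ, ∀ i : Fin D.rank, a (π i) = (Units.mk0 (f i 1) (hf1 i))⁻¹ := by
    refine ⟨fun k => if h : k < D.rank then
      (Units.mk0 (f (π.symm ⟨k, h⟩) 1) (hf1 _))⁻¹ else 1, fun i => ?_⟩
    simp only [(π i).2, dif_pos, Fin.eta, Equiv.symm_apply_apply]
  have hχ := isRootCharacter_rootChar hD Δ a
  have hval : ∀ i : Fin D.rank, ((rootChar D a (D.simple (π i)) : Fˣ) : F) = (f i 1)⁻¹ := by
    intro i
    rw [rootChar_simple hD Δ a (π i).2, ha i]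
    simp
  have hvaln : ∀ i : Fin D.rank, ((rootChar D a (D.neg (D.simple (π i))) : Fˣ) : F) = f i 1 := by
    intro i
    rw [hχ.1 _ (simple_lt Δ (π i).2), rootChar_simple hD Δ a (π i).2, ha i]
    simp
  refine ⟨a, fun i t => (f i 1)⁻¹ * f i t, fun i t => f i 1 * g i t, ⟨?_, ?_⟩, ?_⟩
  · intro i t
    show diagAut Δ.hB _ hχ (θ _) = _
    rw [S.pos, diagAut_xG Δ.hB _ hχ (simple_lt Δ (π i).2), hval]
  · intro i t
    show diagAut Δ.hB _ hχ (θ _) = _
    rw [S.neg, diagAut_xG Δ.hB _ hχ (neg_simple_lt Δ (π i).2), hvaln]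
  · intro i
    exact inv_mul_cancel₀ (hf1 i)

/-- the torus element `h_r(t)` in `G` -/
def hG (hB : BasicOK D) (r : ℕ) (t : F) : ↥(D.group F) :=
  xG hB r t * xG hB (D.neg r) (-t⁻¹) * xG hB r t *
    (xG hB r (-1) * xG hB (D.neg r) (-(-1 : F)⁻¹) * xG hB r (-1))

theorem hG_coe (hB : BasicOK D) (r : ℕ) (t : F) :
    ((hG hB r t : ↥(D.group F)) : GL D.Idx F) = wordU hB (D.hWord r t) := by
  simp only [hG, Subgroup.coe_mul, xG_coe, ChevalleyDatum.hWord, ChevalleyDatum.nWord, wordU,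
    List.map_cons, List.map_nil, List.prod_cons, List.prod_nil, List.cons_append,
    List.nil_append, mul_one, mul_assoc]

/-- the action of `h_{p_i}(c)` on root elements -/
theorem hG_conj_xG (hD : IsTabulated D) (Δ : BNData D F) {i : ℕ} (hi : i < D.rank) {s : ℕ}
    (hs : s < D.nroots) {c : F} (hc : c ≠ 0) (t : F) :
    hG Δ.hB (D.simple i) c * xG Δ.hB s t * (hG Δ.hB (D.simple i) c)⁻¹ =
      xG Δ.hB s (c ^ (D.cartan i s) * t) := by
  rw [mul_inv_eq_iff_eq_mul]
  apply Subtype.ext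
  apply Units.ext
  simp only [Subgroup.coe_mul, xG_coe, hG_coe, Units.val_mul, xU_val, wordU_val]
  exact Cfsg.Agent.S1032.result D hD i s hi hs c hc t

namespace Shape

variable {Δ : BNData D F} {θ : ↥(D.group F) ≃* ↥(D.group F)} {π : Equiv.Perm (Fin D.rank)}
  {f g : Fin D.rank → F → F} (S : Shape Δ θ π f g) (h1 : ∀ i, f i 1 = 1)
include S h1

theorem g_neg_inv (hD : IsTabulated D) (i : Fin D.rank) {t : F} (ht : t ≠ 0) :
    g i (-t⁻¹) = -(f i t)⁻¹ := by
  have h := S.rank_one hD i ht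
  have hft : f i t ≠ 0 := fun h0 => ht (S.f_eq_zero i h0)
  have e : g i (-t⁻¹) = (f i t)⁻¹ * (f i t * g i (-t⁻¹)) := by
    rw [← mul_assoc, inv_mul_cancel₀ hft, one_mul]
  rw [e, h]; ring

theorem g_one (hD : IsTabulated D) (i : Fin D.rank) : g i 1 = 1 := by
  have h := S.g_neg_inv h1 hD i (one_ne_zero (α := F))
  rw [inv_one, h1, inv_one, S.g_neg] at h
  exact neg_injective h

/-- `θ` maps `h_{p_i}(t)` to `h_{p_{π i}}(f_i t)` -/
theorem map_hG (hD : IsTabulated D) (i : Fin D.rank) {t : F} (ht : t ≠ 0) :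
    θ (hG Δ.hB (D.simple i) t) = hG Δ.hB (D.simple (π i)) (f i t) := by
  unfold hG
  simp only [map_mul, S.pos, S.neg]
  rw [S.g_neg_inv h1 hD i ht, S.f_neg, h1, S.g_neg_inv h1 hD i (neg_ne_zero.2 (one_ne_zero (α := F))),
    S.f_neg, h1]

/-- the fundamental relation between the `f_i` -/
theorem f_rel (hD : IsTabulated D) (i j : Fin D.rank) {c : F} (hc : c ≠ 0) (t : F) :
    f j (c ^ (D.cartan i (D.simple j)) * t) =
      (f i c) ^ (D.cartan (π i) (D.simple (π j))) * f j t := by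
  have h := hG_conj_xG hD Δ i.2 (simple_lt Δ j.2) hc t
  have h2 := congrArg θ h
  rw [map_mul, map_mul, map_inv, S.map_hG h1 hD i hc, S.pos, S.pos,
    hG_conj_xG hD Δ (π i).2 (simple_lt Δ (π j).2)
      (fun h0 => hc (S.f_eq_zero i h0))] at h2
  exact (xG_inj Δ (simple_lt Δ (π j).2) h2).symm

end Shape

end Cfsg.Agent.Helper2.Aut
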