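import Mathlib
import Cfsg.Agent.Helper2.Aut.Norm
import Cfsg.Prelude.Def_ChevAutomorphisms

set_option autoImplicit false
set_option linter.unusedSectionVars false
set_option linter.unusedSimpArgs false
set_option linter.unusedVariables false

/-! The permutation of the nodes preserves the bonds of the Dynkin diagram: the order of
`n_i n_j` modulo `H` is read off from the tables. -/

namespace Cfsg.Agent.Helper2.Aut

open Cfsg.Lie Cfsg.Agent.Helper6 Cfsg.Agent.Helper2.BN

variable {D : ChevalleyDatum} {F : Type*} [Field F]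

/-- the word `(i j)^k` -/
def ijWord (i j k : ℕ) : List ℕ := (List.replicate k [i, j]).flatten

/-- the word fixes every positive root -/
def fixPos (D : ChevalleyDatum) (w : List ℕ) : Bool :=
  allLt D.nroots fun r => Nat.blt r (D.nroots / 2) || Nat.beq (wFoldD D w r) r

theorem mem_ijWord {i j k a : ℕ} (h : a ∈ ijWord i j k) : a = i ∨ a = j := by
  unfold ijWord at h
  rw [List.mem_flatten] at h
  obtain ⟨l, hl, hal⟩ := h
  rw [List.eq_of_mem_replicate hl] at hal
  simpa using hal

theorem nW_append (hB : BasicOK D) (L₁ L₂ : List ℕ) :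
    nW hB F (L₁ ++ L₂) = nW hB F L₁ * nW hB F L₂ := by
  simp [nW, List.map_append, List.prod_append]

theorem nW_ijWord (hB : BasicOK D) (i j k : ℕ) :
    nW hB F (ijWord i j k) = (nU hB (D.simple i) (one_ne_zero (α := F)) *
      nU hB (D.simple j) (one_ne_zero (α := F))) ^ k := by
  induction k with
  | zero => simp [ijWord, nW]
  | succ k ih =>
    have e : ijWord i j (k + 1) = [i, j] ++ ijWord i j k := by
      simp [ijWord, List.replicate_succ]
    rw [e, nW_append, ih, pow_succ']
    congr 1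
    simp [nW]

theorem wFold_append (L₁ L₂ : List ℕ) (s : ℕ) :
    wFold D (L₁ ++ L₂) s = wFold D L₁ (wFold D L₂ s) := by
  unfold wFold
  rw [List.foldr_append]

theorem wFold_reverse_wFold (hB : BasicOK D) (hAll : ∀ i < D.rank, SimpleAll D i) {L : List ℕ}
    (hL : ∀ i ∈ L, i < D.rank) {r : ℕ} (hr : r < D.nroots) :
    wFold D L.reverse (wFold D L r) = r := by
  induction L with
  | nil => rfl
  | cons i L ih =>
    have hi := hL i List.mem_cons_self
    have hL' : ∀ j ∈ L, j < D.rank := fun j hj => hL j (List.mem_cons_of_mem _ hj)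
    rw [List.reverse_cons, wFold_append]
    have e1 : wFold D (i :: L) r = wR D (D.simple i) (wFold D L r) := rfl
    have e2 : ∀ s, wFold D [i] s = wR D (D.simple i) s := fun s => rfl
    rw [e1, e2, wR_wR hB (hAll i hi) (wFold_lt hB hAll hL' hr)]
    exact ih hL'

section main

variable (hD : IsTabulated D) (Δ : BNData D F)
include hD Δ

theorem fixPos_spec {w : List ℕ} (hw : ∀ i ∈ w, i < D.rank) :
    fixPos D w = true ↔ ∀ r, D.IsPosRoot r → wFold D w r = r := by
  unfold fixPos
  simp only [allLt_iff, Bool.or_eq_true, Nat.blt_eq, Nat.beq_eq]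
  constructor
  · intro h r hr
    have hN := (Δ.hsign' r hr.1).1 hr
    rcases h r hr.1 with h1 | h1
    · omega
    · rw [← wFoldD_eq Δ.hB Δ.hF Δ.hn Δ.hAll hw hr.1]; exact h1
  · intro h r hr
    by_cases hN : r < D.nroots / 2
    · exact Or.inl hN
    · right
      rw [wFoldD_eq Δ.hB Δ.hF Δ.hn Δ.hAll hw hr]
      exact h r ((Δ.hsign' r hr).2 (by omega))

/-- a word in the fundamental reflections lies in `B` iff it fixes all positive roots -/
theorem nW_mem_borel_iff {w : List ℕ} (hw : ∀ i ∈ w, i < D.rank) :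
    nW Δ.hB F w ∈ D.borelSubgroup F ↔ fixPos D w = true := by
  rw [fixPos_spec hD Δ hw]
  have hwr : ∀ i ∈ w.reverse, i < D.rank := fun i hi => hw i (List.mem_reverse.1 hi)
  have hN : nW Δ.hB F w ∈ D.monomialSubgroup F := nW_mem_monomial Δ.hB Δ.hAll hw
  constructor
  · intro hB r hr
    have hdiag : nW Δ.hB F w ∈ D.diagonalSubgroup F := by
      rw [← Δ.inf_eq]; exact Subgroup.mem_inf.2 ⟨hB, hN⟩
    obtain ⟨c, hc⟩ := Δ.diag_conj_xU hdiag hr.1
    obtain ⟨t', ht'⟩ := nW_conj (F := F) Δ.hB Δ.hAll hw hr.1 (1 : F)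
    have e : xU Δ.hB (wFold D w r) t' = xU Δ.hB r (c * 1) := by rw [← ht', hc]
    have ht0 : t' ≠ 0 := by
      intro h0
      rw [h0, xU_zero] at ht'
      have : xU Δ.hB r (1 : F) = 1 := by
        have e2 : xU Δ.hB r (1 : F) = (nW Δ.hB F w)⁻¹ *
            (nW Δ.hB F w * xU Δ.hB r 1 * (nW Δ.hB F w)⁻¹) * nW Δ.hB F w := by group
        rw [e2, ht']; group
      exact Δ.xU_one_ne_one hr.1 this
    exact Cfsg.Agent.Helper2.HRoot.root_unique hD Δ ((Δ.hsign' r hr.1).1 hr) hr.1
      (wFold_lt Δ.hB Δ.hAll hw hr.1) ht0 e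
  · intro hfix
    have hfix' : ∀ r, D.IsPosRoot r → wFold D w.reverse r = r := by
      intro r hr
      have := wFold_reverse_wFold Δ.hB Δ.hAll hw hr.1
      rw [hfix r hr] at this
      exact this
    have c1 : ∀ u ∈ D.posUnipotent F, nW Δ.hB F w * u * (nW Δ.hB F w)⁻¹ ∈ D.posUnipotent F := by
      intro u hu
      unfold ChevalleyDatum.posUnipotent at hu
      refine conj_closure_mem _ ?_ u hu
      rintro g ⟨r, t, hr, hg⟩
      have e : g = xU Δ.hB r t := Units.ext (by rw [hg, xU_val])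
      obtain ⟨t', ht'⟩ := nW_conj (F := F) Δ.hB Δ.hAll hw hr.1 t
      rw [e, ht', hfix r hr]
      exact Δ.xU_pos_mem hr _
    have c2 : ∀ u ∈ D.posUnipotent F, (nW Δ.hB F w)⁻¹ * u * nW Δ.hB F w ∈ D.posUnipotent F := by
      intro u hu
      unfold ChevalleyDatum.posUnipotent at hu
      have key := conj_closure_mem (K := D.posUnipotent F) (nW Δ.hB F w)⁻¹ ?_ u hu
      · rw [inv_inv] at key; exact key
      rintro g ⟨r, t, hr, hg⟩
      have e : g = xU Δ.hB r t := Units.ext (by rw [hg, xU_val])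
      obtain ⟨t', ht'⟩ := nW_inv_conj (F := F) Δ.hB Δ.hAll hw hr.1 t
      rw [e, inv_inv, ht', hfix' r hr]
      exact Δ.xU_pos_mem hr _
    obtain ⟨nG, hnG⟩ : ∃ nG : ↥(D.group F), (nG : GL D.Idx F) = nW Δ.hB F w :=
      ⟨⟨_, Δ.monomial_le_group hN⟩, rfl⟩
    have hnorm : nG ∈ Subgroup.normalizer ((UG D F : Subgroup ↥(D.group F)) :
        Set ↥(D.group F)) := by
      rw [Subgroup.mem_normalizer_iff]
      intro u
      rw [mem_UG, mem_UG]
      simp only [Subgroup.coe_mul, Subgroup.coe_inv, hnG]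
      constructor
      · exact c1 _
      · intro h
        have := c2 _ h
        have e : (nW Δ.hB F w)⁻¹ * (nW Δ.hB F w * (u : GL D.Idx F) * (nW Δ.hB F w)⁻¹) *
            nW Δ.hB F w = (u : GL D.Idx F) := by group
        rwa [e] at this
    have hnB : nG ∈ (D.borelSubgroup F).subgroupOf (D.group F) := by
      rw [← Cfsg.Agent.Helper11.ChevSylow.normalizer_posUnipotent hD]
      exact hnorm
    rw [Subgroup.mem_subgroupOf, hnG] at hnB
    exact hnB

theorem sG_pow_mem_B_iff {i j : ℕ} (hi : i < D.rank) (hj : j < D.rank) (k : ℕ) :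
    (sG Δ i * sG Δ j) ^ k ∈ Δ.bnPair.B ↔ fixPos D (ijWord i j k) = true := by
  rw [Δ.mem_B_iff_val, ← nW_mem_borel_iff hD Δ (w := ijWord i j k)
    (fun a ha => by rcases mem_ijWord ha with rfl | rfl <;> assumption), nW_ijWord]
  simp only [Subgroup.coe_pow, Subgroup.coe_mul, sG_coe Δ hi, sG_coe Δ hj]

end main

/-- the order read off from the vector of tests -/
def mOrdOf (v : ℕ → Bool) : ℕ :=
  bif v 1 then 1 else bif v 2 then 2 else bif v 3 then 3 else bif v 4 then 4 else
    bif v 6 then 6 else 0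

/-- the bond number attached to an order -/
def bondsOf (m : ℕ) : ℤ :=
  if m = 2 then 0 else if m = 3 then 1 else if m = 4 then 2 else if m = 6 then 3 else 7

/-- the bonds are determined by the orders of the products of two fundamental reflections -/
def ordChk (D : ChevalleyDatum) : Bool :=
  allLt D.rank fun i => allLt D.rank fun j => decide (i = j) ||
    decide (D.bonds i j = bondsOf (mOrdOf fun k => fixPos D (ijWord i j k)))

set_option maxRecDepth 100000 in
theorem ordChk_of_tabulated {D : ChevalleyDatum} (hD : IsTabulated D) : ordChk D = true := by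
  simp only [IsTabulated, List.mem_cons, List.not_mem_nil, or_false] at hD
  rcases hD with rfl | rfl | rfl | rfl | rfl | rfl | rfl <;> decide +kernel

namespace Shape

variable {Δ : BNData D F} {θ : ↥(D.group F) ≃* ↥(D.group F)} {π : Equiv.Perm (Fin D.rank)}
  {f g : Fin D.rank → F → F} (S : Shape Δ θ π f g) (h1 : ∀ i, f i 1 = 1)
include S h1

/-- `θ` maps `n_i` to `n_{π i}` -/
theorem map_sG (hD : IsTabulated D) (i : Fin D.rank) : θ (sG Δ i) = sG Δ (π i) := by
  have e : ∀ k : Fin D.rank, sG Δ k = xG Δ.hB (D.simple k) 1 * xG Δ.hB (D.neg (D.simple k)) (-1) *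
      xG Δ.hB (D.simple k) 1 := by
    intro k
    apply Subtype.ext
    rw [sG_coe Δ k.2, Cfsg.Agent.Helper2.HRoot.nU_eq_mul]
    simp only [Subgroup.coe_mul, xG_coe, inv_one]
  rw [e i, e (π i), map_mul, map_mul, S.pos, S.neg, h1, S.g_neg, S.g_one h1 hD]

/-- the permutation preserves the bonds -/
theorem bonds_eq (hD : IsTabulated D) (hPB : Pres θ Δ.bnPair.B) {i j : Fin D.rank} (hij : i ≠ j) :
    D.bonds (π i) (π j) = D.bonds i j := by
  have hchk := ordChk_of_tabulated hD
  simp only [ordChk, allLt_iff, Bool.or_eq_true, decide_eq_true_eq] at hchk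
  have hne : (i : ℕ) ≠ j := fun h => hij (Fin.ext h)
  have hne' : ((π i : Fin D.rank) : ℕ) ≠ π j := fun h => hij (π.injective (Fin.ext h))
  have e1 := (hchk i i.2 j j.2).resolve_left hne
  have e2 := (hchk (π i) (π i).2 (π j) (π j).2).resolve_left hne'
  rw [e1, e2]
  congr 2
  funext k
  rw [Bool.eq_iff_iff, ← sG_pow_mem_B_iff hD Δ i.2 j.2, ← sG_pow_mem_B_iff hD Δ (π i).2 (π j).2,
    ← S.map_sG h1 hD i, ← S.map_sG h1 hD j, ← map_mul, ← map_pow, hPB]

end Shape

end Cfsg.Agent.Helper2.Aut
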