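import Mathlib
import Cfsg.Agent.Helper2.Aut.Weyl

set_option autoImplicit false
set_option linter.unusedSectionVars false
set_option linter.unusedSimpArgs false
set_option linter.unusedVariables false

/-! A permutation of the nodes exchanging root lengths forces the characteristic. -/

namespace Cfsg.Agent.Helper2.Aut

open Cfsg.Lie Cfsg.Agent.Helper6 Cfsg.Agent.Helper2.BN

variable {D : ChevalleyDatum} {F : Type*} [Field F]

/-- for a multiple bond `i — j` (`p_i` long, `p_j` short) and a multiple bond `i' — j'` with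
`p_{i'}` short and `p_{j'}` long: `x_{p_j}` and `x_{s_j s_i p_j}` have commutator
`x_q(± k t u)` while `x_{p_{j'}}` and `x_{s_{j'} s_{i'} p_{j'}}` commute -/
def swapChk (D : ChevalleyDatum) : Bool :=
  allLt D.rank fun i => allLt D.rank fun j => allLt D.rank fun i' => allLt D.rank fun j' =>
    !(decide (cartanF D i (D.simple j) = -1) && decide (cartanF D j (D.simple i) ≤ -2) &&
      decide (cartanF D i' (D.simple j') = cartanF D j (D.simple i)) &&
      decide (cartanF D j' (D.simple i') = -1)) ||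
    (decide (wD D j (wD D i (D.simple j)) ≠ D.simple j) &&
     decide (wD D j (wD D i (D.simple j)) ≠ negF D (D.simple j)) &&
     decide (wD D j' (wD D i' (D.simple j')) ≠ D.simple j') &&
     decide (wD D j' (wD D i' (D.simple j')) ≠ negF D (D.simple j')) &&
     decide ((commTermsG (ceF D) (D.simple j) (wD D j (wD D i (D.simple j)))).length = 1) &&
     (allL (commTermsG (ceF D) (D.simple j) (wD D j (wD D i (D.simple j)))) fun c =>
       decide (c.1 < D.nroots) && decide (c.2.1.natAbs = (cartanF D j (D.simple i)).natAbs) &&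
       decide (c.2.2.1 = 1) && decide (c.2.2.2 = 1)) &&
     (commTermsG (ceF D) (D.simple j') (wD D j' (wD D i' (D.simple j')))).isEmpty)

set_option maxRecDepth 100000 in
theorem swapChk_of_tabulated {D : ChevalleyDatum} (hD : IsTabulated D) : swapChk D = true := by
  simp only [IsTabulated, List.mem_cons, List.not_mem_nil, or_false] at hD
  rcases hD with rfl | rfl | rfl | rfl | rfl | rfl | rfl <;> decide +kernel

/-- conjugation by `n_j n_i` -/
theorem sG_sG_conj_xG (Δ : BNData D F) {i j : ℕ} (hi : i < D.rank) (hj : j < D.rank) {r : ℕ}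
    (hr : r < D.nroots) (t : F) :
    (sG Δ j * sG Δ i) * xG Δ.hB r t * (sG Δ j * sG Δ i)⁻¹ =
      xG Δ.hB (wR D (D.simple j) (wR D (D.simple i) r))
        (((etaR D (D.simple j) (wR D (D.simple i) r) : ℤ) : F) *
          (((etaR D (D.simple i) r : ℤ) : F) * t)) := by
  have h1 := sG_conj_xG Δ hi hr t
  have hr' := wR_lt Δ.hB (Δ.hAll i hi).hS.1 (Δ.hAll i hi).hR hr
  have h2 := sG_conj_xG Δ hj hr' (((etaR D (D.simple i) r : ℤ) : F) * t)
  rw [← h2, ← h1]
  group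

namespace Shape

variable {Δ : BNData D F} {θ : ↥(D.group F) ≃* ↥(D.group F)} {π : Equiv.Perm (Fin D.rank)}
  {f g : Fin D.rank → F → F} (S : Shape Δ θ π f g) (h1 : ∀ i, f i 1 = 1)
include S h1

/-- a length-exchanging permutation forces the characteristic -/
theorem swap_char (hD : IsTabulated D) {i j : Fin D.rank} {k : ℕ} (hk : 2 ≤ k)
    (hA1 : D.cartan i (D.simple j) = -1) (hA2 : D.cartan j (D.simple i) = -(k : ℤ))
    (hA3 : D.cartan (π i) (D.simple (π j)) = -(k : ℤ))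
    (hA4 : D.cartan (π j) (D.simple (π i)) = -1) : ((k : ℕ) : F) = 0 := by
  have hchk := swapChk_of_tabulated hD
  unfold swapChk at hchk
  rw [ceF_eq Δ.hF.keys Δ.hF.chk, negF_eq Δ.hF.chk, cartanF_eq Δ.hF.chk, commTermsG_eq] at hchk
  simp only [allLt_iff, Bool.or_eq_true, Bool.and_eq_true, Bool.not_eq_true', decide_eq_true_eq,
    decide_eq_false_iff_not, allL_iff, List.isEmpty_iff] at hchk
  have hc := hchk i i.2 j j.2 (π i) (π i).2 (π j) (π j).2
  have hw : ∀ (a : Fin D.rank) {s : ℕ}, s < D.nroots → wD D a s = wR D (D.simple a) s :=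
    fun a s hs => wD_eq Δ.hF Δ.hn (fun s hs => wR_lt Δ.hB (Δ.hAll a a.2).hS.1 (Δ.hAll a a.2).hR hs) hs
  have hwlt : ∀ (a : Fin D.rank) {s : ℕ}, s < D.nroots → wR D (D.simple a) s < D.nroots :=
    fun a s hs => wR_lt Δ.hB (Δ.hAll a a.2).hS.1 (Δ.hAll a a.2).hR hs
  have hrj := simple_lt Δ j.2
  have hrj' := simple_lt Δ (π j).2
  rw [hw i hrj, hw j (hwlt i hrj), hw (π i) hrj', hw (π j) (hwlt (π i) hrj')] at hc
  rcases hc with hc | hc
  · exfalso
    rw [Bool.eq_false_iff] at hc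
    apply hc
    simp only [Bool.and_eq_true, decide_eq_true_eq]
    refine ⟨⟨⟨hA1, ?_⟩, ?_⟩, hA4⟩
    · rw [hA2]; omega
    · rw [hA3, hA2]
  obtain ⟨⟨⟨⟨⟨⟨c1, c2⟩, c3⟩, c4⟩, c5⟩, c6⟩, c7⟩ := hc
  obtain ⟨s, hs⟩ : ∃ s, s = wR D (D.simple j) (wR D (D.simple i) (D.simple j)) := ⟨_, rfl⟩
  obtain ⟨s', hs'⟩ : ∃ s', s' = wR D (D.simple (π j)) (wR D (D.simple (π i)) (D.simple (π j))) :=
    ⟨_, rfl⟩
  rw [← hs] at c1 c2 c5 c6
  rw [← hs'] at c3 c4 c7
  have hslt : s < D.nroots := by rw [hs]; exact hwlt j (hwlt i hrj)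
  have hslt' : s' < D.nroots := by rw [hs']; exact hwlt (π j) (hwlt (π i) hrj')
  -- the single term
  obtain ⟨c0, hc0⟩ := List.length_eq_one_iff.1 c5
  have hc0p := c6 c0 (by rw [hc0]; exact List.mem_singleton_self _)
  obtain ⟨⟨⟨q1, q2⟩, q3⟩, q4⟩ := hc0p
  -- signs
  obtain ⟨η, hη, hconj⟩ : ∃ η : F, η ≠ 0 ∧ ∀ t : F,
      (sG Δ j * sG Δ i) * xG Δ.hB (D.simple j) t * (sG Δ j * sG Δ i)⁻¹ = xG Δ.hB s (η * t) := by
    refine ⟨((etaR D (D.simple j) (wR D (D.simple i) (D.simple j)) : ℤ) : F) *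
      ((etaR D (D.simple i) (D.simple j) : ℤ) : F), ?_, fun t => ?_⟩
    · rcases ((Δ.hAll j j.2).hE.2 _ (hwlt i hrj)).1 with e1 | e1 <;>
      rcases ((Δ.hAll i i.2).hE.2 _ hrj).1 with e2 | e2 <;> rw [e1, e2] <;> simp
    · rw [sG_sG_conj_xG Δ i.2 j.2 hrj, ← hs, mul_assoc]
  obtain ⟨η', hη', hconj'⟩ : ∃ η' : F, η' ≠ 0 ∧ ∀ t : F,
      (sG Δ (π j) * sG Δ (π i)) * xG Δ.hB (D.simple (π j)) t * (sG Δ (π j) * sG Δ (π i))⁻¹ =
        xG Δ.hB s' (η' * t) := by
    refine ⟨((etaR D (D.simple (π j)) (wR D (D.simple (π i)) (D.simple (π j))) : ℤ) : F) *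
      ((etaR D (D.simple (π i)) (D.simple (π j)) : ℤ) : F), ?_, fun t => ?_⟩
    · rcases ((Δ.hAll (π j) (π j).2).hE.2 _ (hwlt (π i) hrj')).1 with e1 | e1 <;>
      rcases ((Δ.hAll (π i) (π i).2).hE.2 _ hrj').1 with e2 | e2 <;> rw [e1, e2] <;> simp
    · rw [sG_sG_conj_xG Δ (π i).2 (π j).2 hrj', ← hs', mul_assoc]
  -- the image of `x_s`
  have himg : θ (xG Δ.hB s (η * 1)) = xG Δ.hB s' (η' * 1) := by
    rw [← hconj, map_mul, map_mul, map_inv, map_mul, S.map_sG h1 hD, S.map_sG h1 hD, S.pos, h1,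
      hconj']
  -- the commutator relations
  have hC := Δ.hC _ hrj _ hslt c1 c2 (1 : F) (η * 1)
  have hC' := Δ.hC _ hrj' _ hslt' c3 c4 (1 : F) (η' * 1)
  have hG : xG Δ.hB s (η * 1) * xG Δ.hB (D.simple j) 1 =
      xG Δ.hB (D.simple j) 1 * xG Δ.hB s (η * 1) *
        xG Δ.hB c0.1 ((c0.2.1 : F) * (-1) ^ c0.2.2.1 * (η * 1) ^ c0.2.2.2) := by
    apply Subtype.ext
    apply Units.ext
    simp only [Subgroup.coe_mul, xG_coe, Units.val_mul, xU_val]
    rw [hC]
    unfold ChevalleyDatum.commWord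
    rw [hc0]
    simp [ChevalleyDatum.wordMat]
  have hG' : xG Δ.hB s' (η' * 1) * xG Δ.hB (D.simple (π j)) 1 =
      xG Δ.hB (D.simple (π j)) 1 * xG Δ.hB s' (η' * 1) := by
    apply Subtype.ext
    apply Units.ext
    simp only [Subgroup.coe_mul, xG_coe, Units.val_mul, xU_val]
    rw [hC']
    unfold ChevalleyDatum.commWord
    rw [c7]
    simp [ChevalleyDatum.wordMat]
  have h3 := congrArg θ hG
  rw [map_mul, map_mul, map_mul, himg, S.pos, h1, hG'] at h3
  have h4 : θ (xG Δ.hB c0.1 ((c0.2.1 : F) * (-1) ^ c0.2.2.1 * (η * 1) ^ c0.2.2.2)) = 1 :=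
    (mul_eq_left (a := xG Δ.hB (D.simple (π j)) 1 * xG Δ.hB s' (η' * 1))).1 h3.symm
  have h5 : xG Δ.hB c0.1 ((c0.2.1 : F) * (-1) ^ c0.2.2.1 * (η * 1) ^ c0.2.2.2) = 1 := by
    apply θ.injective; rw [h4, map_one]
  have h6 := (xG_eq_one_iff Δ q1).1 h5
  rw [q3, q4, pow_one, pow_one, mul_one] at h6
  have h7 : ((c0.2.1 : ℤ) : F) = 0 := by
    rcases mul_eq_zero.1 h6 with h | h
    · rcases mul_eq_zero.1 h with h | h
      · exact h
      · exfalso; simp at h
    · exact absurd h hη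
  rw [hA2] at q2
  simp only [Int.natAbs_neg, Int.natAbs_natCast] at q2
  rcases Int.natAbs_eq c0.2.1 with e | e
  · rw [e, q2] at h7; exact_mod_cast h7
  · rw [e, q2] at h7
    push_cast at h7
    exact neg_eq_zero.1 h7

end Shape

end Cfsg.Agent.Helper2.Aut
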