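import Mathlib
import Cfsg.Agent.Helper2.Aut.Swap

set_option autoImplicit false
set_option linter.unusedSectionVars false
set_option linter.unusedSimpArgs false
set_option linter.unusedVariables false

/-! The functions `f_i` are powers of one field automorphism. -/

namespace Cfsg.Agent.Helper2.Aut

open Cfsg.Lie Cfsg.Agent.Helper6 Cfsg.Agent.Helper2.BN

variable {D : ChevalleyDatum} {F : Type*} [Field F]

/-- an additive map of a finite field which is multiplicative on squares is multiplicative -/
theorem mul_of_sq [Finite F] {φ : F → F} (hadd : ∀ a b, φ (a + b) = φ a + φ b)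
    (hsq : ∀ c t, φ (c ^ 2 * t) = φ (c ^ 2) * φ t) : ∀ a b, φ (a * b) = φ a * φ b := by
  have h0 : φ 0 = 0 := by
    have := hadd 0 0
    rw [add_zero] at this
    exact left_eq_add.1 this
  have hneg : ∀ a, φ (-a) = - φ a := by
    intro a
    have := hadd a (-a)
    rw [add_neg_cancel, h0] at this
    exact eq_neg_of_add_eq_zero_right this.symm
  have hsub : ∀ a b, φ (a - b) = φ a - φ b := by
    intro a b
    rw [sub_eq_add_neg, hadd, hneg, ← sub_eq_add_neg]
  intro a b
  by_cases h2 : (2 : F) = 0
  · have hchar : ringChar F = 2 := by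
      have hd : ringChar F ∣ 2 := ringChar.dvd (by exact_mod_cast h2)
      rcases (Nat.dvd_prime Nat.prime_two).1 hd with h | h
      · exact absurd h (CharP.ringChar_ne_one)
      · exact h
    obtain ⟨r, hr⟩ := FiniteField.isSquare_of_char_two hchar a
    rw [hr, ← pow_two, hsq]
  · have e : a = ((a + 1) / 2) ^ 2 - ((a - 1) / 2) ^ 2 := by field_simp; ring
    have e1 : a * b = ((a + 1) / 2) ^ 2 * b - ((a - 1) / 2) ^ 2 * b := by
      rw [← sub_mul, ← e]
    rw [e1, hsub, hsq, hsq, ← sub_mul, ← hsub, ← e]

/-- the table facts relating the Cartan integers, the bonds and the root lengths -/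
def lenChk (D : ChevalleyDatum) : Bool :=
  decide (0 < D.rank) &&
  (D.isLong (D.simple (D.rank - 1)) || allLt D.rank fun i => !D.isLong (D.simple i)) &&
  allLt D.rank fun i => allLt D.rank fun j => decide (i = j) ||
    (decide (D.bonds i j = 0 → D.cartan i (D.simple j) = 0) &&
     decide (D.bonds i j = 1 → D.cartan i (D.simple j) = -1 ∧
       D.isLong (D.simple i) = D.isLong (D.simple j)) &&
     decide (D.bonds i j ≠ 0 → D.bonds i j ≠ 1 → (D.bonds i j = 2 ∨ D.bonds i j = 3) ∧
       ((D.isLong (D.simple i) = true ∧ D.isLong (D.simple j) = false ∧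
          D.cartan i (D.simple j) = -1 ∧ D.cartan j (D.simple i) = - D.bonds i j) ∨
        (D.isLong (D.simple i) = false ∧ D.isLong (D.simple j) = true ∧
          D.cartan i (D.simple j) = - D.bonds i j ∧ D.cartan j (D.simple i) = -1))))

set_option maxRecDepth 100000 in
theorem lenChk_of_tabulated {D : ChevalleyDatum} (hD : IsTabulated D) : lenChk D = true := by
  simp only [IsTabulated, List.mem_cons, List.not_mem_nil, or_false] at hD
  rcases hD with rfl | rfl | rfl | rfl | rfl | rfl | rfl <;> decide +kernel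

/-- one step of the closure of a set of nodes under the edges `i → j` with `A_{ij} = -1` -/
def growL (D : ChevalleyDatum) (S : List ℕ) : List ℕ :=
  S ++ (List.range D.rank).filter fun j =>
    S.any fun i => decide (i ≠ j) && decide (D.cartan i (D.simple j) = -1)

/-- every node is reached from the last one -/
def reachChk (D : ChevalleyDatum) : Bool :=
  allLt D.rank fun j => ((growL D)^[D.rank] [D.rank - 1]).contains j

set_option maxRecDepth 100000 in
theorem reachChk_of_tabulated {D : ChevalleyDatum} (hD : IsTabulated D) : reachChk D = true := by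
  simp only [IsTabulated, List.mem_cons, List.not_mem_nil, or_false] at hD
  rcases hD with rfl | rfl | rfl | rfl | rfl | rfl | rfl <;> decide +kernel

theorem reach_induction (hD : IsTabulated D) (R : ℕ → Prop) (h0 : R (D.rank - 1))
    (hstep : ∀ i j, i < D.rank → j < D.rank → i ≠ j → D.cartan i (D.simple j) = -1 → R i → R j) :
    ∀ j < D.rank, R j := by
  have hl := lenChk_of_tabulated hD
  simp only [lenChk, Bool.and_eq_true, decide_eq_true_eq] at hl
  have hrk : 0 < D.rank := hl.1.1
  have hgrow : ∀ S : List ℕ, (∀ i ∈ S, i < D.rank ∧ R i) → ∀ j ∈ growL D S, j < D.rank ∧ R j := by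
    intro S hS j hj
    unfold growL at hj
    rw [List.mem_append] at hj
    rcases hj with hj | hj
    · exact hS j hj
    · rw [List.mem_filter, List.mem_range, List.any_eq_true] at hj
      obtain ⟨hjr, i, hiS, hij⟩ := hj
      rw [Bool.and_eq_true, decide_eq_true_eq, decide_eq_true_eq] at hij
      exact ⟨hjr, hstep i j (hS i hiS).1 hjr hij.1 hij.2 (hS i hiS).2⟩
  have hiter : ∀ n : ℕ, ∀ j ∈ (growL D)^[n] [D.rank - 1], j < D.rank ∧ R j := by
    intro n
    induction n with
    | zero =>
      intro j hj
      simp only [Function.iterate_zero, id_eq, List.mem_singleton] at hj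
      rw [hj]; exact ⟨by omega, h0⟩
    | succ n ih =>
      intro j hj
      rw [Function.iterate_succ_apply'] at hj
      exact hgrow _ ih j hj
  have hr := reachChk_of_tabulated hD
  simp only [reachChk, allLt_iff, List.contains_iff_mem] at hr
  intro j hj
  exact (hiter D.rank j (hr j hj)).2

namespace Shape

variable {Δ : BNData D F} {θ : ↥(D.group F) ≃* ↥(D.group F)} {π : Equiv.Perm (Fin D.rank)}
  {f g : Fin D.rank → F → F} (S : Shape Δ θ π f g) (h1 : ∀ i, f i 1 = 1)
include S h1

theorem f_sq (hD : IsTabulated D) (i : Fin D.rank) (c t : F) :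
    f i (c ^ 2 * t) = f i (c ^ 2) * f i t := by
  by_cases hc : c = 0
  · subst hc
    simp [S.f_zero]
  · have h := S.f_rel h1 hD i i hc t
    have h' := S.f_rel h1 hD i i hc 1
    rw [(Δ.hAll i i.2).hS.2.1, (Δ.hAll (π i) (π i).2).hS.2.1] at h h'
    rw [mul_one, h1, mul_one] at h'
    have e : ∀ x : F, x ^ (2 : ℤ) = x ^ 2 := fun x => zpow_ofNat x 2
    rw [e, e] at h h'
    rw [h, h']

theorem f_mul [Finite F] (hD : IsTabulated D) (i : Fin D.rank) (a b : F) :
    f i (a * b) = f i a * f i b :=
  mul_of_sq (S.f_add i) (S.f_sq h1 hD i) a b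

theorem f_inv [Finite F] (hD : IsTabulated D) (i : Fin D.rank) {c : F} (hc : c ≠ 0) :
    f i c⁻¹ = (f i c)⁻¹ := by
  apply eq_inv_of_mul_eq_one_left
  rw [← S.f_mul h1 hD, inv_mul_cancel₀ hc, h1]

theorem f_pow [Finite F] (hD : IsTabulated D) (i : Fin D.rank) (c : F) (n : ℕ) :
    f i (c ^ n) = (f i c) ^ n := by
  induction n with
  | zero => simp [h1]
  | succ n ih => rw [pow_succ, S.f_mul h1 hD, ih, pow_succ]

theorem edge [Finite F] (hD : IsTabulated D) (i j : Fin D.rank)
    (hA : D.cartan i (D.simple j) = -1) {c : F} (hc : c ≠ 0) :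
    (f j c)⁻¹ = (f i c) ^ (D.cartan (π i) (D.simple (π j))) := by
  have h := S.f_rel h1 hD i j hc 1
  rw [hA, zpow_neg_one, mul_one, h1 j, mul_one, S.f_inv h1 hD j hc] at h
  exact h

theorem g_eq_f [Finite F] (hD : IsTabulated D) (i : Fin D.rank) (s : F) : g i s = f i s := by
  by_cases hs : s = 0
  · rw [hs, S.f_zero, S.g_zero]
  · have ht : -s⁻¹ ≠ 0 := neg_ne_zero.2 (inv_ne_zero hs)
    have h := S.g_neg_inv h1 hD i ht
    have e : -(-s⁻¹)⁻¹ = s := by rw [inv_neg, inv_inv, neg_neg]
    rw [e, S.f_neg, S.f_inv h1 hD i hs, inv_neg, inv_inv, neg_neg] at h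
    exact h

/-- the field automorphism given by `f_i` -/
noncomputable def sigma [Finite F] (hD : IsTabulated D) (i : Fin D.rank) : F ≃+* F :=
  RingEquiv.ofBijective
    ({ toFun := f i
       map_one' := h1 i
       map_mul' := S.f_mul h1 hD i
       map_zero' := S.f_zero i
       map_add' := S.f_add i } : F →+* F)
    ⟨S.f_injective i, S.f_surjective i⟩

theorem sigma_apply [Finite F] (hD : IsTabulated D) (i : Fin D.rank) (t : F) :
    S.sigma h1 hD i t = f i t := rfl

/-- all the `f_i` are powers of one field automorphism, with the exponents of a graph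
automorphism -/
theorem exists_sigma [Finite F] (hD : IsTabulated D) (hPB : Pres θ Δ.bnPair.B) :
    ∃ σ : F ≃+* F, ∀ (i : Fin D.rank) (t : F),
      f i t = (σ t) ^ D.graphExp (ringChar F) i (π i) := by
  have hl := lenChk_of_tabulated hD
  simp only [lenChk, Bool.and_eq_true, Bool.or_eq_true, decide_eq_true_eq, allLt_iff,
    Bool.not_eq_true'] at hl
  obtain ⟨⟨hrk, hroot⟩, hlen⟩ := hl
  obtain ⟨i0, hi0⟩ : ∃ i0 : Fin D.rank, (i0 : ℕ) = D.rank - 1 := ⟨⟨D.rank - 1, by omega⟩, rfl⟩
  refine ⟨S.sigma h1 hD i0, ?_⟩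
  have hp : ringChar F ≠ 0 := by
    haveI : Fintype F := Fintype.ofFinite F
    obtain ⟨p, hp⟩ := CharP.exists F
    haveI := hp
    haveI : Fact p.Prime := ⟨CharP.char_is_prime F p⟩
    rw [ringChar.eq F p]
    exact (Fact.out : p.Prime).ne_zero
  have hgp : ∀ a b : ℕ, D.graphExp (ringChar F) a b ≠ 0 := by
    intro a b
    unfold ChevalleyDatum.graphExp
    split_ifs
    · exact hp
    · exact one_ne_zero
  -- reduce to nonzero arguments
  suffices hmain : ∀ j < D.rank, ∀ (hj : j < D.rank) (t : F), t ≠ 0 →
      f ⟨j, hj⟩ t = (f i0 t) ^ D.graphExp (ringChar F) j (π ⟨j, hj⟩) by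
    intro i t
    rw [sigma_apply]
    by_cases ht : t = 0
    · rw [ht, S.f_zero, S.f_zero, zero_pow (hgp _ _)]
    · exact hmain i i.2 i.2 t ht
  apply reach_induction hD
    (fun j => ∀ (hj : j < D.rank) (t : F), t ≠ 0 →
      f ⟨j, hj⟩ t = (f i0 t) ^ D.graphExp (ringChar F) j (π ⟨j, hj⟩))
  · -- the root
    intro hj t ht
    have e : (⟨D.rank - 1, hj⟩ : Fin D.rank) = i0 := Fin.ext hi0.symm
    rw [e]
    have : D.graphExp (ringChar F) (D.rank - 1) (π i0) = 1 := by
      unfold ChevalleyDatum.graphExp
      rcases hroot with h | h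
      · rw [h]; simp
      · rw [h _ (π i0).2]; simp
    rw [this, pow_one]
  · -- the step
    intro i j hi hj hij hA IH hj' t ht
    obtain ⟨iF, hiF⟩ : ∃ iF : Fin D.rank, (iF : ℕ) = i := ⟨⟨i, hi⟩, rfl⟩
    obtain ⟨jF, hjF⟩ : ∃ jF : Fin D.rank, (jF : ℕ) = j := ⟨⟨j, hj⟩, rfl⟩
    have eI : (⟨i, hi⟩ : Fin D.rank) = iF := Fin.ext hiF.symm
    have eJ : (⟨j, hj'⟩ : Fin D.rank) = jF := Fin.ext hjF.symm
    have IH' := IH hi t ht
    rw [eI] at IH'
    rw [eJ]
    have hne : iF ≠ jF := fun h => hij (by rw [← hiF, ← hjF, h])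
    have hA' : D.cartan iF (D.simple jF) = -1 := by rw [hiF, hjF]; exact hA
    have hbd := S.bonds_eq h1 hD hPB hne
    have hE := S.edge h1 hD iF jF hA' ht
    have hne' : ((π iF : Fin D.rank) : ℕ) ≠ π jF := fun h => hne (π.injective (Fin.ext h))
    have hneN : (iF : ℕ) ≠ jF := fun h => hne (Fin.ext h)
    have T := (hlen iF iF.2 jF jF.2).resolve_left hneN
    have T' := (hlen (π iF) (π iF).2 (π jF) (π jF).2).resolve_left hne'
    obtain ⟨⟨T0, T1⟩, T2⟩ := T
    obtain ⟨⟨T0', T1'⟩, T2'⟩ := T'
    rw [hbd] at T0' T1' T2'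
    have hb0 : D.bonds iF jF ≠ 0 := by
      intro h0
      have := T0 h0
      rw [hA'] at this
      omega
    have hfj : f jF t ≠ 0 := fun h0 => ht (S.f_eq_zero jF h0)
    have hfi : f iF t ≠ 0 := fun h0 => ht (S.f_eq_zero iF h0)
    by_cases hb1 : D.bonds iF jF = 1
    · -- single bond
      obtain ⟨-, hL⟩ := T1 hb1
      obtain ⟨hA'', hL'⟩ := T1' hb1
      rw [hA'', zpow_neg_one] at hE
      have hfe : f jF t = f iF t := inv_injective hE
      have hge : D.graphExp (ringChar F) j (π jF) = D.graphExp (ringChar F) i (π iF) := by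
        unfold ChevalleyDatum.graphExp
        rw [← hiF, ← hjF, hL, hL']
      rw [hfe, hge, IH']
    · -- multiple bond
      obtain ⟨hb23, hcase⟩ := T2 hb0 hb1
      obtain ⟨-, hcase'⟩ := T2' hb0 hb1
      rcases hcase with ⟨hLi, hLj, -, hAji⟩ | ⟨-, -, hAij, -⟩
      · have hgi : D.graphExp (ringChar F) i (π iF) = 1 := by
          unfold ChevalleyDatum.graphExp
          rw [← hiF, hLi]; simp
        rw [hgi, pow_one] at IH'
        rcases hcase' with ⟨-, hLj', hA'', -⟩ | ⟨hLi', hLj', hA'', hA4⟩
        · rw [hA'', zpow_neg_one] at hE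
          have hfe : f jF t = f iF t := inv_injective hE
          have hgj : D.graphExp (ringChar F) j (π jF) = 1 := by
            unfold ChevalleyDatum.graphExp
            rw [hLj']; simp
          rw [hgj, pow_one, hfe, IH']
        · have hgj : D.graphExp (ringChar F) j (π jF) = ringChar F := by
            unfold ChevalleyDatum.graphExp
            rw [← hjF, hLj', hLj]; simp
          rw [hgj, ← IH']
          rcases hb23 with hb | hb
          · rw [hb] at hA'' hAji
            have hk := S.swap_char h1 hD (k := 2) (le_refl 2) hA' (by exact_mod_cast hAji)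
              (by exact_mod_cast hA'') hA4
            have hchar : ringChar F = 2 := by
              have hd : ringChar F ∣ 2 := ringChar.dvd hk
              rcases (Nat.dvd_prime Nat.prime_two).1 hd with h | h
              · exact absurd h (CharP.ringChar_ne_one)
              · exact h
            rw [hchar]
            rw [hA'', zpow_neg, zpow_ofNat] at hE
            exact inv_injective hE
          · rw [hb] at hA'' hAji
            have hk := S.swap_char h1 hD (k := 3) (by norm_num) hA' (by exact_mod_cast hAji)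
              (by exact_mod_cast hA'') hA4
            have hchar : ringChar F = 3 := by
              have hd : ringChar F ∣ 3 := ringChar.dvd hk
              rcases (Nat.dvd_prime Nat.prime_three).1 hd with h | h
              · exact absurd h (CharP.ringChar_ne_one)
              · exact h
            rw [hchar]
            rw [hA'', zpow_neg, zpow_ofNat] at hE
            exact inv_injective hE
      · exfalso
        rw [hA'] at hAij
        rcases hb23 with hb | hb <;> rw [hb] at hAij <;> omega

end Shape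

end Cfsg.Agent.Helper2.Aut
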