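import Mathlib
import Cfsg.Agent.Helper2.Aut.Edge
import Cfsg.Agent.S1080

set_option autoImplicit false
set_option linter.unusedSectionVars false
set_option linter.unusedSimpArgs false
set_option linter.unusedVariables false

/-! Steinberg's theorem: every automorphism of a tabulated Chevalley group over a finite field is
a product of an inner, a diagonal, a graph and a field automorphism. -/

namespace Cfsg.Agent.Helper2.Aut

open Cfsg.Lie Cfsg.Agent.Helper6 Cfsg.Agent.Helper2.BN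

variable {D : ChevalleyDatum} {F : Type*} [Field F]

/-- diagonal automorphisms preserve `B` -/
theorem pres_diagAut_B (Δ : BNData D F) (χ : ℕ → Fˣ) (hχ : D.IsRootCharacter χ) :
    Pres (diagAut Δ.hB χ hχ) Δ.bnPair.B := by
  intro y
  rw [Δ.mem_B_iff_val, Δ.mem_B_iff_val, diagAut_coe]
  constructor
  · intro h
    have := Cfsg.Agent.Helper11.ChevCharDiag.conj_borel_mem Δ.hB Δ.hH
      (Cfsg.Agent.Helper11.ChevCharDiag.isRootCharacter_inv hχ) (dU_inv_val χ) h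
    rw [inv_inv] at this
    have e : (dU D F χ)⁻¹ * (dU D F χ * (y : GL D.Idx F) * (dU D F χ)⁻¹) * dU D F χ =
        (y : GL D.Idx F) := by group
    rwa [e] at this
  · intro h
    exact Cfsg.Agent.Helper11.ChevCharDiag.conj_borel_mem Δ.hB Δ.hH hχ (dU_val χ) h

theorem isDiagonalAut_symm (hB : BasicOK D) (χ : ℕ → Fˣ) (hχ : D.IsRootCharacter χ) :
    D.IsDiagonalAut (diagAut (F := F) hB χ hχ).symm := by
  refine ⟨fun r => (χ r)⁻¹, Cfsg.Agent.Helper11.ChevCharDiag.isRootCharacter_inv hχ, fun g => ?_⟩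
  have e : (((diagAut (F := F) hB χ hχ).symm g : ↥(D.group F)) : GL D.Idx F) =
      (dU D F χ)⁻¹ * g * dU D F χ := rfl
  rw [e, Units.val_mul, Units.val_mul, dU_inv_val, dU_val]
  simp only [inv_inv]

/-- Steinberg's theorem in explicit form -/
theorem steinberg_explicit [Finite F] (hD : IsTabulated D) (Δ : BNData D F)
    (θ : ↥(D.group F) ≃* ↥(D.group F)) :
    ∃ (x : ↥(D.group F)) (a : ℕ → Fˣ) (γ fσ : ↥(D.group F) ≃* ↥(D.group F))
      (π : Equiv.Perm (Fin D.rank)) (σ : F ≃+* F),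
      D.IsDiagramSymmetry π ∧
      (∀ (i : Fin D.rank) (t : F), γ (xG Δ.hB (D.simple i) t) =
        xG Δ.hB (D.simple (π i)) (t ^ D.graphExp (ringChar F) i (π i))) ∧
      (∀ (i : Fin D.rank) (t : F), γ (xG Δ.hB (D.neg (D.simple i)) t) =
        xG Δ.hB (D.neg (D.simple (π i))) (t ^ D.graphExp (ringChar F) i (π i))) ∧
      (∀ (r : ℕ) (t : F), r < D.nroots → fσ (xG Δ.hB r t) = xG Δ.hB r (σ t)) ∧
      ∀ y : ↥(D.group F), θ y = x * (diagAut Δ.hB (rootChar D a)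
        (isRootCharacter_rootChar hD Δ a)).symm (γ (fσ y)) * x⁻¹ := by
  obtain ⟨x, hU, hV, hB⟩ := exists_normalize hD Δ θ
  obtain ⟨π, f, g, S⟩ := exists_shape hD Δ hU hV
  obtain ⟨a, f', g', S', h1⟩ := exists_diag_normalize hD S
  have hdB := pres_diagAut_B Δ (rootChar D a) (isRootCharacter_rootChar hD Δ a)
  obtain ⟨d, hd⟩ : ∃ d : ↥(D.group F) ≃* ↥(D.group F),
      d = diagAut Δ.hB (rootChar D a) (isRootCharacter_rootChar hD Δ a) := ⟨_, rfl⟩
  rw [← hd] at S' hdB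
  have hB₂ : Pres ((cjA x θ).trans d) Δ.bnPair.B := fun y => (hdB (cjA x θ y)).trans (hB y)
  obtain ⟨σ, hσ⟩ := S'.exists_sigma h1 hD hB₂
  obtain ⟨fσ, hfσ⟩ := Cfsg.Agent.S1080.result (F := F) D hD σ
  have hfσx : ∀ (r : ℕ) (t : F), r < D.nroots → fσ (xG Δ.hB r t) = xG Δ.hB r (σ t) := by
    intro r t hr
    exact eq_xG_of_val Δ.hB (hfσ (xG Δ.hB r t) r t hr rfl)
  have hfσs : ∀ (r : ℕ) (t : F), r < D.nroots →
      fσ.symm (xG Δ.hB r t) = xG Δ.hB r (σ.symm t) := by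
    intro r t hr
    rw [MulEquiv.symm_apply_eq, hfσx r _ hr, RingEquiv.apply_symm_apply]
  refine ⟨x, a, fσ.symm.trans ((cjA x θ).trans d), fσ, π, σ,
    fun i j hij => S'.bonds_eq h1 hD hB₂ hij, ?_, ?_, hfσx, ?_⟩
  · intro i t
    show ((cjA x θ).trans d) (fσ.symm (xG Δ.hB (D.simple i) t)) = _
    rw [hfσs _ _ (simple_lt Δ i.2), S'.pos, hσ, RingEquiv.apply_symm_apply]
  · intro i t
    show ((cjA x θ).trans d) (fσ.symm (xG Δ.hB (D.neg (D.simple i)) t)) = _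
    rw [hfσs _ _ (neg_simple_lt Δ i.2), S'.neg, S'.g_eq_f h1 hD, hσ, RingEquiv.apply_symm_apply]
  · intro y
    rw [← hd]
    show θ y = x * d.symm (((cjA x θ).trans d) (fσ.symm (fσ y))) * x⁻¹
    rw [MulEquiv.symm_apply_apply]
    show θ y = x * d.symm (d (cjA x θ y)) * x⁻¹
    rw [MulEquiv.symm_apply_apply, cjA_apply]
    group

theorem steinberg [Finite F] (hD : IsTabulated D) (θ : ↥(D.group F) ≃* ↥(D.group F)) :
    ∃ (x : ↥(D.group F)) (d g f : ↥(D.group F) ≃* ↥(D.group F)),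
      D.IsDiagonalAut d ∧ D.IsGraphAut g ∧ D.IsFieldAut f ∧
        ∀ y : ↥(D.group F), θ y = x * d (g (f y)) * x⁻¹ := by
  have Δ := bnData_of_tabulated F hD
  obtain ⟨x, a, γ, fσ, π, σ, hπ, hγ1, hγ2, hfσ, hθ⟩ := steinberg_explicit hD Δ θ
  refine ⟨x, _, γ, fσ, isDiagonalAut_symm Δ.hB _ (isRootCharacter_rootChar hD Δ a), ?_, ?_, hθ⟩
  · refine ⟨π, hπ, fun y i t => ⟨fun hy => ?_, fun hy => ?_⟩⟩
    · rw [eq_xG_of_val Δ.hB hy, hγ1]; rfl
    · rw [eq_xG_of_val Δ.hB hy, hγ2]; rfl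
  · refine ⟨σ, fun y r t hr hy => ?_⟩
    rw [eq_xG_of_val Δ.hB hy, hfσ r t hr]; rfl

end Cfsg.Agent.Helper2.Aut
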