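import Mathlib
import Cfsg.Agent.Helper2.Aut.Parab2
import Cfsg.Agent.Helper2.Aut.RootChar
import Cfsg.Agent.Helper11.ChevGen
import Cfsg.Agent.S1080
import Cfsg.Prelude.Def_KGroupFacts

set_option autoImplicit false
set_option linter.unusedSectionVars false
set_option linter.unusedSimpArgs false
set_option linter.unusedVariables false

/-! Tools for the outer automorphism groups: field automorphisms as a function of the field
automorphism, extensionality on generators, inner automorphisms preserving `U` and `V`. -/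

namespace Cfsg.Agent.Helper2.Aut

open Cfsg.Lie Cfsg.Agent.Helper6 Cfsg.Agent.Helper2.BN

variable {D : ChevalleyDatum} {F : Type*} [Field F]

/-- two automorphisms agreeing on the root elements are equal -/
theorem mulEquiv_ext_xG (hB : BasicOK D) {φ ψ : ↥(D.group F) ≃* ↥(D.group F)}
    (h : ∀ (r : ℕ) (t : F), r < D.nroots → φ (xG hB r t) = ψ (xG hB r t)) : φ = ψ := by
  have htop : Subgroup.closure (((↑) : ↥(D.group F) → GL D.Idx F) ⁻¹'
      {g | ∃ (r : Fin D.nroots) (t : F), (g : Matrix D.Idx D.Idx F) = D.xMat F r t}) = ⊤ :=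
    Subgroup.closure_closure_coe_preimage
  have hle : Subgroup.closure (((↑) : ↥(D.group F) → GL D.Idx F) ⁻¹'
      {g | ∃ (r : Fin D.nroots) (t : F), (g : Matrix D.Idx D.Idx F) = D.xMat F r t}) ≤
      MonoidHom.eqLocus φ.toMonoidHom ψ.toMonoidHom := by
    rw [Subgroup.closure_le]
    rintro y ⟨r, t, hy⟩
    have e : y = xG hB r.val t := Subtype.ext (Units.ext (by rw [hy, xG_coe, xU_val, x_of_lt r.2]))
    rw [e]
    exact h r.val t r.2
  rw [htop] at hle
  ext y
  have := hle (Subgroup.mem_top y)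
  exact congrArg (fun z : ↥(D.group F) => ((z : GL D.Idx F) : Matrix D.Idx D.Idx F) _ _) this

/-- two automorphisms agreeing on the fundamental root elements and their negatives are equal -/
theorem mulEquiv_ext_fund (hD : IsTabulated D) (Δ : BNData D F)
    {φ ψ : ↥(D.group F) ≃* ↥(D.group F)}
    (h1 : ∀ (i : Fin D.rank) (t : F), φ (xG Δ.hB (D.simple i) t) = ψ (xG Δ.hB (D.simple i) t))
    (h2 : ∀ (i : Fin D.rank) (t : F), φ (xG Δ.hB (D.neg (D.simple i)) t) =
      ψ (xG Δ.hB (D.neg (D.simple i)) t)) : φ = ψ := by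
  have htop := Cfsg.Agent.Helper11.ChevGen.closure_fundSet (F := F) hD
  have hle : Subgroup.closure (Cfsg.Agent.Helper11.ChevGen.fundSet D F) ≤
      MonoidHom.eqLocus φ.toMonoidHom ψ.toMonoidHom := by
    rw [Subgroup.closure_le]
    rintro y ⟨i, t, hy | hy⟩
    · rw [eq_xG_of_val Δ.hB hy]; exact h1 i t
    · rw [eq_xG_of_val Δ.hB hy]; exact h2 i t
  rw [htop] at hle
  ext y
  have := hle (Subgroup.mem_top y)
  exact congrArg (fun z : ↥(D.group F) => ((z : GL D.Idx F) : Matrix D.Idx D.Idx F) _ _) this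

/-- the field automorphism of the Chevalley group attached to `σ` -/
noncomputable def fieldAut (hD : IsTabulated D) (σ : F ≃+* F) : ↥(D.group F) ≃* ↥(D.group F) :=
  Classical.choose (Cfsg.Agent.S1080.result (F := F) D hD σ)

theorem fieldAut_xG (hD : IsTabulated D) (hB : BasicOK D) (σ : F ≃+* F) {r : ℕ}
    (hr : r < D.nroots) (t : F) : fieldAut hD σ (xG hB r t) = xG hB r (σ t) :=
  eq_xG_of_val hB (Classical.choose_spec (Cfsg.Agent.S1080.result (F := F) D hD σ)
    (xG hB r t) r t hr rfl)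

theorem fieldAut_mul (hD : IsTabulated D) (hB : BasicOK D) (σ τ : F ≃+* F) :
    fieldAut hD (σ * τ) = (fieldAut hD τ).trans (fieldAut hD σ) := by
  apply mulEquiv_ext_xG hB
  intro r t hr
  show _ = fieldAut hD σ (fieldAut hD τ _)
  rw [fieldAut_xG hD hB _ hr, fieldAut_xG hD hB _ hr, fieldAut_xG hD hB _ hr]
  rfl

theorem fieldAut_one (hD : IsTabulated D) (hB : BasicOK D) :
    fieldAut (F := F) hD 1 = MulEquiv.refl _ := by
  apply mulEquiv_ext_xG hB
  intro r t hr
  rw [fieldAut_xG hD hB _ hr]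
  rfl

theorem isFieldAut_fieldAut (hD : IsTabulated D) (σ : F ≃+* F) :
    D.IsFieldAut (fieldAut hD σ) :=
  ⟨σ, Classical.choose_spec (Cfsg.Agent.S1080.result (F := F) D hD σ)⟩

/-- `U` as a closure inside `G` -/
theorem UG_eq_closure (hB : BasicOK D) :
    UG D F = Subgroup.closure {y : ↥(D.group F) | ∃ (r : ℕ) (t : F), D.IsPosRoot r ∧
      y = xG hB r t} := by
  have himg : (D.group F).subtype '' {y : ↥(D.group F) | ∃ (r : ℕ) (t : F), D.IsPosRoot r ∧
      y = xG hB r t} = {g : GL D.Idx F | ∃ (r : ℕ) (t : F), D.IsPosRoot r ∧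
        (g : Matrix D.Idx D.Idx F) = D.x F r t} := by
    ext g
    constructor
    · rintro ⟨y, ⟨r, t, hr, rfl⟩, rfl⟩
      exact ⟨r, t, hr, rfl⟩
    · rintro ⟨r, t, hr, hg⟩
      exact ⟨xG hB r t, ⟨r, t, hr, rfl⟩, Units.ext (by rw [hg]; rfl)⟩
  have h1 : (Subgroup.closure {y : ↥(D.group F) | ∃ (r : ℕ) (t : F), D.IsPosRoot r ∧
      y = xG hB r t}).map (D.group F).subtype = D.posUnipotent F := by
    rw [MonoidHom.map_closure, himg]; rfl
  unfold UG
  rw [← h1]
  exact Subgroup.comap_map_eq_self_of_injective (Subgroup.subtype_injective _) _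

/-- `V` as a closure inside `G` -/
theorem VG_eq_closure (hB : BasicOK D) :
    VG D F = Subgroup.closure {y : ↥(D.group F) | ∃ (r : ℕ) (t : F), D.IsNegRoot r ∧
      y = xG hB r t} := by
  have himg : (D.group F).subtype '' {y : ↥(D.group F) | ∃ (r : ℕ) (t : F), D.IsNegRoot r ∧
      y = xG hB r t} = {g : GL D.Idx F | ∃ (r : ℕ) (t : F), D.IsNegRoot r ∧
        (g : Matrix D.Idx D.Idx F) = D.x F r t} := by
    ext g
    constructor
    · rintro ⟨y, ⟨r, t, hr, rfl⟩, rfl⟩
      exact ⟨r, t, hr, rfl⟩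
    · rintro ⟨r, t, hr, hg⟩
      exact ⟨xG hB r t, ⟨r, t, hr, rfl⟩, Units.ext (by rw [hg]; rfl)⟩
  have h1 : (Subgroup.closure {y : ↥(D.group F) | ∃ (r : ℕ) (t : F), D.IsNegRoot r ∧
      y = xG hB r t}).map (D.group F).subtype = D.negUnipotent F := by
    rw [MonoidHom.map_closure, himg]; rfl
  unfold VG
  rw [← h1]
  exact Subgroup.comap_map_eq_self_of_injective (Subgroup.subtype_injective _) _

/-- an automorphism mapping each root element into its root subgroup preserves `U` and `V` -/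
theorem pres_of_root_stable [Finite F] (hB : BasicOK D) {φ : ↥(D.group F) ≃* ↥(D.group F)}
    (h : ∀ (r : ℕ) (t : F), r < D.nroots → ∃ t' : F, φ (xG hB r t) = xG hB r t') :
    Pres φ (UG D F) ∧ Pres φ (VG D F) := by
  constructor
  · apply pres_of_maps
    intro y hy
    rw [UG_eq_closure hB] at hy ⊢
    induction hy using Subgroup.closure_induction with
    | mem y hy =>
      obtain ⟨r, t, hr, rfl⟩ := hy
      obtain ⟨t', ht'⟩ := h r t hr.1
      rw [ht']
      exact Subgroup.subset_closure ⟨r, t', hr, rfl⟩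
    | one => rw [map_one]; exact Subgroup.one_mem _
    | mul a b _ _ iha ihb => rw [map_mul]; exact Subgroup.mul_mem _ iha ihb
    | inv a _ iha => rw [map_inv]; exact Subgroup.inv_mem _ iha
  · apply pres_of_maps
    intro y hy
    rw [VG_eq_closure hB] at hy ⊢
    induction hy using Subgroup.closure_induction with
    | mem y hy =>
      obtain ⟨r, t, hr, rfl⟩ := hy
      obtain ⟨t', ht'⟩ := h r t hr.1
      rw [ht']
      exact Subgroup.subset_closure ⟨r, t', hr, rfl⟩
    | one => rw [map_one]; exact Subgroup.one_mem _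
    | mul a b _ _ iha ihb => rw [map_mul]; exact Subgroup.mul_mem _ iha ihb
    | inv a _ iha => rw [map_inv]; exact Subgroup.inv_mem _ iha

/-- `H` normalises `V` -/
theorem diag_conj_negUnipotent (Δ : BNData D F) {h : GL D.Idx F} (hh : h ∈ D.diagonalSubgroup F)
    {v : GL D.Idx F} (hv : v ∈ D.negUnipotent F) : h * v * h⁻¹ ∈ D.negUnipotent F := by
  unfold ChevalleyDatum.negUnipotent at hv
  refine conj_closure_mem h ?_ v hv
  rintro g ⟨r, t, hr, hg⟩
  have e : g = xU Δ.hB r t := Units.ext (by rw [hg, xU_val])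
  obtain ⟨c, hc⟩ := Δ.diag_conj_xU hh hr.1
  rw [e, hc]
  exact Δ.xU_neg_mem hr _

/-- an element of `G` normalising `U` and `V` lies in `H` -/
theorem mem_HG_of_normalizes [Finite F] (hD : IsTabulated D) (Δ : BNData D F) {x : ↥(D.group F)}
    (hU : ∀ y, x * y * x⁻¹ ∈ UG D F ↔ y ∈ UG D F) (hV : ∀ y, x * y * x⁻¹ ∈ VG D F ↔ y ∈ VG D F) :
    x ∈ HG D F := by
  have W := w0Data_of_tabulated hD Δ
  have hxB : x ∈ Δ.bnPair.B := by
    have : x ∈ Subgroup.normalizer ((UG D F : Subgroup ↥(D.group F)) : Set ↥(D.group F)) := by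
      rw [Subgroup.mem_normalizer_iff]
      intro y; exact (hU y).symm
    have hN := Cfsg.Agent.Helper11.ChevSylow.normalizer_posUnipotent (F := F) hD
    unfold UG at this
    rw [hN] at this
    exact this
  rw [Δ.mem_B_iff_val] at hxB
  have hxB' : (x : GL D.Idx F) ∈ ((D.posUnipotent F ⊔ D.diagonalSubgroup F :
      Subgroup (GL D.Idx F)) : Set (GL D.Idx F)) := hxB
  rw [Subgroup.coe_mul_of_right_le_normalizer_left _ _
    (diagonal_le_normalizer_posUnipotent Δ.hB Δ.hAll Δ.hAdd Δ.hH), Set.mem_mul] at hxB'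
  obtain ⟨u, hu, h, hh, e⟩ := hxB'
  obtain ⟨uG, huG⟩ : ∃ uG : ↥(D.group F), (uG : GL D.Idx F) = u :=
    ⟨⟨u, posUnipotent_le_group Δ.hB hu⟩, rfl⟩
  obtain ⟨hG', hhG⟩ : ∃ hG' : ↥(D.group F), (hG' : GL D.Idx F) = h :=
    ⟨⟨h, diagonalSubgroup_le_group Δ.hB hh⟩, rfl⟩
  have ex : x = uG * hG' := Subtype.ext (by rw [Subgroup.coe_mul, huG, hhG, e])
  have huU : uG ∈ UG D F := by rw [mem_UG, huG]; exact hu
  -- `h` normalises `V`
  have hhV : ∀ y, hG' * y * hG'⁻¹ ∈ VG D F ↔ y ∈ VG D F := by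
    intro y
    rw [mem_VG, mem_VG]
    simp only [Subgroup.coe_mul, Subgroup.coe_inv, hhG]
    constructor
    · intro hy
      have := diag_conj_negUnipotent Δ (Subgroup.inv_mem _ hh) hy
      rw [inv_inv] at this
      have e2 : h⁻¹ * (h * (y : GL D.Idx F) * h⁻¹) * h = (y : GL D.Idx F) := by group
      rwa [e2] at this
    · exact diag_conj_negUnipotent Δ hh
  have huV : ∀ y, uG * y * uG⁻¹ ∈ VG D F ↔ y ∈ VG D F := by
    intro y
    have e3 : uG * y * uG⁻¹ = x * (hG'⁻¹ * y * hG') * x⁻¹ := by rw [ex]; group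
    rw [e3, hV]
    have := hhV (hG'⁻¹ * y * hG')
    have e4 : hG' * (hG'⁻¹ * y * hG') * hG'⁻¹ = y := by group
    rw [e4] at this
    exact this.symm
  -- `y = n₀⁻¹ u n₀`
  obtain ⟨y, hy⟩ : ∃ y, y = (n0G Δ W)⁻¹ * uG * n0G Δ W := ⟨_, rfl⟩
  have hyV : y ∈ VG D F := by
    rw [mem_VG_iff_n0 Δ W, hy]
    have : n0G Δ W * ((n0G Δ W)⁻¹ * uG * n0G Δ W) * (n0G Δ W)⁻¹ = uG := by group
    rw [this]; exact huU
  have hyN : y ∈ Subgroup.normalizer ((UG D F : Subgroup ↥(D.group F)) : Set ↥(D.group F)) := by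
    rw [Subgroup.mem_normalizer_iff]
    intro z
    rw [mem_UG_iff_n0 Δ W z, mem_UG_iff_n0 Δ W (y * z * y⁻¹)]
    have e5 : n0G Δ W * (y * z * y⁻¹) * (n0G Δ W)⁻¹ =
        uG * (n0G Δ W * z * (n0G Δ W)⁻¹) * uG⁻¹ := by rw [hy]; group
    rw [e5, huV]
  have hN := Cfsg.Agent.Helper11.ChevSylow.normalizer_posUnipotent (F := F) hD
  unfold UG at hyN
  rw [hN] at hyN
  have hy1 := eq_one_of_mem_B_of_mem_VG Δ hyN hyV
  have hu1 : uG = 1 := by
    have : uG = n0G Δ W * y * (n0G Δ W)⁻¹ := by rw [hy]; group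
    rw [this, hy1]; group
  rw [ex, hu1, one_mul, mem_HG, hhG]
  exact hh

theorem nroots_pos (hD : IsTabulated D) : 0 < D.nroots := by
  simp only [IsTabulated, List.mem_cons, List.not_mem_nil, or_false] at hD
  rcases hD with rfl | rfl | rfl | rfl | rfl | rfl | rfl <;> decide

/-- a field automorphism which is inner is trivial -/
theorem fieldAut_inner [Finite F] (hD : IsTabulated D) (Δ : BNData D F) {σ : F ≃+* F}
    {x : ↥(D.group F)} (h : ∀ y, fieldAut hD σ y = x * y * x⁻¹) : σ = 1 := by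
  have hP := pres_of_root_stable Δ.hB (φ := fieldAut hD σ)
    (fun r t hr => ⟨σ t, fieldAut_xG hD Δ.hB σ hr t⟩)
  have hx := mem_HG_of_normalizes hD Δ (x := x) (fun y => by rw [← h]; exact hP.1 y)
    (fun y => by rw [← h]; exact hP.2 y)
  have hr : 0 < D.nroots := nroots_pos hD
  obtain ⟨c, hc⟩ := Δ.diag_conj_xU (mem_HG.1 hx) hr
  have key : ∀ t : F, σ t = c * t := by
    intro t
    have h1 := h (xG Δ.hB 0 t)
    rw [fieldAut_xG hD Δ.hB σ hr] at h1
    have h2 := congrArg Subtype.val h1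
    simp only [Subgroup.coe_mul, Subgroup.coe_inv, xG_coe] at h2
    rw [hc] at h2
    exact Cfsg.Agent.Helper2.HRoot.xU_inj' Δ hr h2
  have hc1 : c = 1 := by
    have := key 1
    rw [map_one, mul_one] at this
    exact this.symm
  ext t
  rw [key t, hc1, one_mul]
  rfl

end Cfsg.Agent.Helper2.Aut
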