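import Mathlib
import Cfsg.Agent.Helper2.Aut.OutA

set_option autoImplicit false
set_option linter.unusedSectionVars false
set_option linter.unusedSimpArgs false
set_option linter.unusedVariables false
set_option linter.style.haveILetI false

/-! Outer automorphism groups of Chevalley groups, part B: counting tools, the class map to `Out`,
field automorphisms as a subgroup of `Out`, and the diagonal automorphisms which are inner. -/

namespace Cfsg.Agent.Helper2.Aut

open Cfsg.Lie Cfsg.Agent.Helper6 Cfsg.Agent.Helper2.BN Cfsg.Agent.Helper2.Levi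

/-- the number of automorphisms of a finite field with `p^f` elements is `f` -/
theorem card_ringAut {F : Type*} [Field F] [Fintype F] (p f : ℕ) [Fact p.Prime] [CharP F p]
    (hF : Fintype.card F = p ^ f) : Nat.card (F ≃+* F) = f := by
  letI : Algebra (ZMod p) F := ZMod.algebra F p
  have e : (F ≃+* F) ≃ (F ≃ₐ[ZMod p] F) :=
    { toFun := fun σ => AlgEquiv.ofRingEquiv (f := σ) (fun x => by
        have : (σ : F →+* F).comp (algebraMap (ZMod p) F) = algebraMap (ZMod p) F :=
          Subsingleton.elim _ _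
        exact RingHom.congr_fun this x)
      invFun := fun σ => σ.toRingEquiv
      left_inv := fun σ => by ext x; rfl
      right_inv := fun σ => by ext x; rfl }
  rw [Nat.card_congr e, IsGalois.card_aut_eq_finrank]
  have h1 : Fintype.card F = Fintype.card (ZMod p) ^ Module.finrank (ZMod p) F :=
    Module.card_eq_pow_finrank
  rw [ZMod.card, hF] at h1
  exact (Nat.pow_right_injective (Fact.out : p.Prime).two_le h1).symm

/-- counting with a subgroup of index two given by a coset representative -/
theorem card_eq_two_mul {O : Type*} [Group O] (H : Subgroup O) (g : O) (hg : g ∉ H)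
    (h : ∀ b : O, b ∈ H ∨ g⁻¹ * b ∈ H) : Nat.card O = 2 * Nat.card H := by
  have hidx : H.index = 2 := by
    rw [Subgroup.index_eq_two_iff]
    refine ⟨g, fun b => ?_⟩
    by_cases hb : b ∈ H
    · refine Or.inr ⟨hb, fun hbg => hg ?_⟩
      have := H.mul_mem (H.inv_mem hb) hbg
      rwa [inv_mul_cancel_left] at this
    · refine Or.inl ⟨?_, hb⟩
      rcases h b⁻¹ with h1 | h1
      · exact absurd (by simpa using H.inv_mem h1) hb
      · have := H.inv_mem h1
        simpa [mul_inv_rev] using this
  rw [← Subgroup.card_mul_index H, hidx, mul_comm]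

section out

variable {G : Type*} [Group G]

/-- the class of an automorphism in `Out` -/
def outMk (G : Type*) [Group G] : MulAut G →* Cfsg.Out G := QuotientGroup.mk' (Cfsg.Inn G)

theorem outMk_surjective : Function.Surjective (outMk G) := QuotientGroup.mk'_surjective _

theorem outMk_eq_one_iff (θ : MulAut G) : outMk G θ = 1 ↔ ∃ x : G, ∀ y, θ y = x * y * x⁻¹ := by
  unfold outMk
  rw [QuotientGroup.mk'_apply, QuotientGroup.eq_one_iff]
  constructor
  · rintro ⟨x, hx⟩
    exact ⟨x, fun y => by rw [← hx]; rfl⟩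
  · rintro ⟨x, hx⟩
    exact ⟨x, by ext y; rw [hx]; rfl⟩

theorem outMk_eq_iff (θ θ' : MulAut G) :
    outMk G θ = outMk G θ' ↔ ∃ x : G, ∀ y, θ y = x * θ' y * x⁻¹ := by
  have e : outMk G θ = outMk G θ' ↔ outMk G (θ * θ'⁻¹) = 1 := by
    rw [map_mul, map_inv, mul_inv_eq_one]
  rw [e, outMk_eq_one_iff]
  constructor
  · rintro ⟨x, hx⟩
    refine ⟨x, fun y => ?_⟩
    have := hx (θ' y)
    rw [MulAut.mul_apply, MulAut.inv_apply_self] at this
    exact this
  · rintro ⟨x, hx⟩
    refine ⟨x, fun y => ?_⟩
    rw [MulAut.mul_apply, hx, MulAut.apply_inv_self]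

theorem outMk_conj (x : G) : outMk G (MulAut.conj x) = 1 :=
  (outMk_eq_one_iff _).2 ⟨x, fun y => rfl⟩

end out

variable {D : ChevalleyDatum} {F : Type*} [Field F]

/-- the field automorphisms as a homomorphism into the automorphism group -/
noncomputable def fieldAutHom (hD : IsTabulated D) (hB : BasicOK D) :
    (F ≃+* F) →* MulAut ↥(D.group F) where
  toFun σ := fieldAut hD σ
  map_one' := fieldAut_one hD hB
  map_mul' σ τ := fieldAut_mul hD hB σ τ

theorem fieldAutHom_apply (hD : IsTabulated D) (hB : BasicOK D) (σ : F ≃+* F) :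
    fieldAutHom hD hB σ = fieldAut hD σ := rfl

/-- the classes of the field automorphisms -/
noncomputable def psiHom (hD : IsTabulated D) (hB : BasicOK D) :
    (F ≃+* F) →* Cfsg.Out ↥(D.group F) := (outMk _).comp (fieldAutHom hD hB)

theorem psiHom_apply (hD : IsTabulated D) (hB : BasicOK D) (σ : F ≃+* F) :
    psiHom hD hB σ = outMk _ (fieldAut hD σ) := rfl

theorem psiHom_injective [Finite F] (hD : IsTabulated D) (Δ : BNData D F) :
    Function.Injective (psiHom (F := F) hD Δ.hB) := by
  rw [injective_iff_map_eq_one]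
  intro σ hσ
  rw [psiHom_apply, outMk_eq_one_iff] at hσ
  obtain ⟨x, hx⟩ := hσ
  exact fieldAut_inner hD Δ hx

theorem card_range_psiHom [Finite F] (hD : IsTabulated D) (Δ : BNData D F) :
    Nat.card (psiHom (F := F) hD Δ.hB).range = Nat.card (F ≃+* F) :=
  (Nat.card_congr (MonoidHom.ofInjective (psiHom_injective hD Δ)).toEquiv).symm

/-! ### Torus elements with unit parameters -/

/-- the torus matrix with unit parameters, as a unit -/
def torU (D : ChevalleyDatum) (F : Type*) [Field F] (c : ℕ → Fˣ) : GL D.Idx F :=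
  ⟨torMat D F (fun i => ((c i : Fˣ) : F)), torMat D F (fun i => (((c i)⁻¹ : Fˣ) : F)), by
    rw [torMat_mul]
    have : (fun i => ((c i : Fˣ) : F) * (((c i)⁻¹ : Fˣ) : F)) = fun _ => (1 : F) := by
      funext i; exact Units.mul_inv _
    rw [this, torMat_one], by
    rw [torMat_mul]
    have : (fun i => (((c i)⁻¹ : Fˣ) : F) * ((c i : Fˣ) : F)) = fun _ => (1 : F) := by
      funext i; exact Units.inv_mul _
    rw [this, torMat_one]⟩

theorem torU_val (c : ℕ → Fˣ) :
    ((torU D F c : GL D.Idx F) : Matrix D.Idx D.Idx F) = torMat D F (fun i => ((c i : Fˣ) : F)) :=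
  rfl

theorem torU_mem (Δ : BNData D F) (c : ℕ → Fˣ) : torU D F c ∈ D.diagonalSubgroup F :=
  mem_diagonal_of_val_eq_torMat Δ.hB Δ.hAll (fun i _ => (c i).ne_zero) (torU_val c)

theorem torU_conj_xU (Δ : BNData D F) (c : ℕ → Fˣ) {r : ℕ} (hr : r < D.nroots) (t : F) :
    torU D F c * xU Δ.hB r t * (torU D F c)⁻¹ =
      xU Δ.hB r (torChar D (fun i => ((c i : Fˣ) : F)) r * t) := by
  rw [mul_inv_eq_iff_eq_mul]
  apply Units.ext
  simp only [Units.val_mul, xU_val, torU_val]
  exact torMat_mul_x Δ.hB Δ.hAdd (fun k => (c k).ne_zero) hr t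

/-- the torus element of `G` with unit parameters -/
def torG (Δ : BNData D F) (c : ℕ → Fˣ) : ↥(D.group F) :=
  ⟨torU D F c, diagonalSubgroup_le_group Δ.hB (torU_mem Δ c)⟩

theorem torG_mem_HG (Δ : BNData D F) (c : ℕ → Fˣ) : torG Δ c ∈ HG D F := by
  rw [mem_HG]; exact torU_mem Δ c

/-- the character of a torus element, with unit values -/
noncomputable def torCharU (D : ChevalleyDatum) (c : ℕ → Fˣ) (u : ℕ) : Fˣ :=
  ∏ i ∈ Finset.range D.rank, c i ^ D.cartan i u

theorem torChar_coe (c : ℕ → Fˣ) (u : ℕ) :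
    torChar D (fun i => ((c i : Fˣ) : F)) u = ((torCharU D c u : Fˣ) : F) := by
  unfold torChar torCharU
  rw [Units.coe_prod]
  apply Finset.prod_congr rfl
  intro i _
  rw [Units.val_zpow_eq_zpow_val]

/-- a diagonal automorphism whose character is the character of a torus element is inner -/
theorem diagAut_eq_conj (Δ : BNData D F) {χ : ℕ → Fˣ} (hχ : D.IsRootCharacter χ) (c : ℕ → Fˣ)
    (h : ∀ r < D.nroots, torCharU D c r = χ r) (y : ↥(D.group F)) :
    diagAut Δ.hB χ hχ y = torG Δ c * y * (torG Δ c)⁻¹ := by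
  have e : diagAut Δ.hB χ hχ = MulAut.conj (torG Δ c) := by
    apply mulEquiv_ext_xG Δ.hB
    intro r t hr
    rw [diagAut_xG Δ.hB χ hχ hr, MulAut.conj_apply]
    apply Subtype.ext
    simp only [Subgroup.coe_mul, Subgroup.coe_inv, xG_coe, torG]
    rw [torU_conj_xU Δ c hr, torChar_coe, h r hr]
  rw [e, MulAut.conj_apply]

end Cfsg.Agent.Helper2.Aut
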