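import Mathlib
import Cfsg.Agent.Helper2.Aut.OutB

set_option autoImplicit false
set_option linter.unusedSectionVars false
set_option linter.unusedSimpArgs false
set_option linter.unusedVariables false

/-! Outer automorphism groups of Chevalley groups, part C: which diagonal automorphisms are
inner, by a Smith-form certificate of the Cartan matrix. -/

namespace Cfsg.Agent.Helper2.Aut

open Cfsg.Lie Cfsg.Agent.Helper6 Cfsg.Agent.Helper2.BN Cfsg.Agent.Helper2.Levi

/-- the types whose outer automorphism groups are computed here -/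
def IsOutType (D : ChevalleyDatum) : Prop := D ∈ [chevG2, chevF4, chevE6, chevE7, chevE8]

theorem IsOutType.tab {D : ChevalleyDatum} (h : IsOutType D) : IsTabulated D := by
  simp only [IsOutType, List.mem_cons, List.not_mem_nil, or_false] at h
  unfold IsTabulated
  rcases h with rfl | rfl | rfl | rfl | rfl <;> simp

/-- the matrix `N` with `Aᵀ N = 1 - v mᵀ` -/
def nTab (D : ChevalleyDatum) : List (List ℤ) :=
  if D.nroots = 12 then [[2, 1], [3, 2]]
  else if D.nroots = 48 then [[2, 3, 2, 1], [3, 6, 4, 2], [4, 8, 6, 3], [2, 4, 3, 2]]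
  else if D.nroots = 72 then [[0, 1, -1, 2, 0, -2], [0, 2, 0, 3, 1, -1], [0, 2, 0, 4, 1, -2],
    [0, 3, 0, 6, 2, -2], [0, 2, 0, 4, 2, -1], [0, 1, 0, 2, 1, 0]]
  else if D.nroots = 126 then [[2, 1, 3, 4, 2, 2, 0], [2, 2, 4, 6, 3, 3, 0], [3, 2, 6, 8, 4, 4, 0],
    [4, 3, 8, 12, 6, 6, 0], [3, 2, 6, 9, 5, 5, 0], [2, 1, 4, 6, 3, 4, 0], [1, 0, 2, 3, 1, 2, 0]]
  else [[4, 5, 7, 10, 8, 6, 4, 2], [5, 8, 10, 15, 12, 9, 6, 3], [7, 10, 14, 20, 16, 12, 8, 4],
    [10, 15, 20, 30, 24, 18, 12, 6], [8, 12, 16, 24, 20, 15, 10, 5], [6, 9, 12, 18, 15, 12, 8, 4],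
    [4, 6, 8, 12, 10, 8, 6, 3], [2, 3, 4, 6, 5, 4, 3, 2]]

/-- the vector `m` spanning the kernel of `A` modulo the determinant -/
def mTab (D : ChevalleyDatum) : List ℤ :=
  if D.nroots = 72 then [1, 0, 2, 0, 1, 2] else if D.nroots = 126 then [0, 1, 0, 0, 1, 0, 1] else []

/-- a vector `v` with `m · v = 1` -/
def vTab (D : ChevalleyDatum) : List ℤ :=
  if D.nroots = 72 then [1] else if D.nroots = 126 then [0, 0, 0, 0, 0, 0, 1] else []

/-- the vector `w` with `Aᵀ w = d v` -/
def wTab (D : ChevalleyDatum) : List ℤ :=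
  if D.nroots = 72 then [4, 3, 5, 6, 4, 2] else if D.nroots = 126 then [2, 3, 4, 6, 5, 4, 3] else []

def nE (D : ChevalleyDatum) (i k : ℕ) : ℤ := ((nTab D).getD i []).getD k 0
def mE (D : ChevalleyDatum) (k : ℕ) : ℤ := (mTab D).getD k 0
def vE (D : ChevalleyDatum) (k : ℕ) : ℤ := (vTab D).getD k 0
def wE (D : ChevalleyDatum) (k : ℕ) : ℤ := (wTab D).getD k 0

/-- the certificate -/
def dgChk (D : ChevalleyDatum) : Bool :=
  (allLt D.rank fun j => allLt D.rank fun k =>
    decide (((List.range D.rank).map fun i => nE D i k * D.cartan i (D.simple j)).sum =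
      (if k = j then 1 else 0) + mE D k * (-vE D j))) &&
  (allLt D.rank fun j =>
    decide (((List.range D.rank).map fun i => wE D i * D.cartan i (D.simple j)).sum =
      cDet D * vE D j)) &&
  (allLt D.rank fun i =>
    decide ((((List.range D.rank).map fun k => D.cartan i (D.simple k) * mE D k).sum) % cDet D = 0)) &&
  (allLt D.nroots fun r => allLt D.rank fun i =>
    decide (D.cartan i r =
      ((List.range D.rank).map fun k => D.cartan i (D.simple k) * mC D k r).sum)) &&
  decide (((List.range D.rank).map fun k => vE D k * mE D k).sum = if cDet D = 1 then 0 else 1)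

set_option maxRecDepth 100000 in
theorem dgChk_of_outType {D : ChevalleyDatum} (hD : IsOutType D) : dgChk D = true := by
  simp only [IsOutType, List.mem_cons, List.not_mem_nil, or_false] at hD
  rcases hD with rfl | rfl | rfl | rfl | rfl <;> decide +kernel

theorem sum_list_range (n : ℕ) (f : ℕ → ℤ) :
    ((List.range n).map f).sum = ∑ i ∈ Finset.range n, f i := by
  induction n with
  | zero => simp
  | succ n ih =>
    rw [List.range_succ, List.map_append, List.sum_append, Finset.sum_range_succ, ih]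
    simp

/-- the certificate, unfolded -/
structure DiagData (D : ChevalleyDatum) : Prop where
  hN : ∀ j < D.rank, ∀ k < D.rank,
    ∑ i ∈ Finset.range D.rank, nE D i k * D.cartan i (D.simple j) =
      (if k = j then 1 else 0) + mE D k * (-vE D j)
  hW : ∀ j < D.rank,
    ∑ i ∈ Finset.range D.rank, wE D i * D.cartan i (D.simple j) = cDet D * vE D j
  hM : ∀ i < D.rank, cDet D ∣ ∑ k ∈ Finset.range D.rank, D.cartan i (D.simple k) * mE D k
  hL : ∀ r < D.nroots, ∀ i < D.rank,
    D.cartan i r = ∑ k ∈ Finset.range D.rank, D.cartan i (D.simple k) * mC D k r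
  hMV : ∑ k ∈ Finset.range D.rank, vE D k * mE D k = if cDet D = 1 then 0 else 1

theorem diagData_of_outType {D : ChevalleyDatum} (hD : IsOutType D) : DiagData D := by
  have h := dgChk_of_outType hD
  simp only [dgChk, Bool.and_eq_true, allLt_iff, decide_eq_true_eq] at h
  obtain ⟨⟨⟨⟨h1, h2⟩, h3⟩, h4⟩, h5⟩ := h
  refine ⟨fun j hj k hk => ?_, fun j hj => ?_, fun i hi => ?_, fun r hr i hi => ?_, ?_⟩
  · rw [← sum_list_range]; exact h1 j hj k hk
  · rw [← sum_list_range]; exact h2 j hj
  · rw [← sum_list_range]; exact Int.dvd_of_emod_eq_zero (h3 i hi)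
  · rw [← sum_list_range]; exact h4 r hr i hi
  · rw [← sum_list_range]; exact h5

section algebra

variable {G : Type*} [CommGroup G]

theorem zpow_sum_rg (b : G) (n : ℕ) (f : ℕ → ℤ) :
    b ^ (∑ k ∈ Finset.range n, f k) = ∏ k ∈ Finset.range n, b ^ f k := by
  induction n with
  | zero => simp
  | succ n ih => rw [Finset.sum_range_succ, Finset.prod_range_succ, zpow_add, ih]

/-- composing exponent matrices -/
theorem prod_zpow_mat (c : ℕ → G) (n m : ℕ) (e : ℕ → ℕ → ℤ) (g : ℕ → ℤ) :
    ∏ j ∈ Finset.range m, (∏ i ∈ Finset.range n, c i ^ e i j) ^ g j =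
      ∏ i ∈ Finset.range n, c i ^ (∑ j ∈ Finset.range m, e i j * g j) := by
  calc ∏ j ∈ Finset.range m, (∏ i ∈ Finset.range n, c i ^ e i j) ^ g j
      = ∏ j ∈ Finset.range m, ∏ i ∈ Finset.range n, c i ^ (e i j * g j) := by
        apply Finset.prod_congr rfl
        intro j _
        rw [← Finset.prod_zpow]
        apply Finset.prod_congr rfl
        intro i _
        rw [zpow_mul]
    _ = ∏ i ∈ Finset.range n, ∏ j ∈ Finset.range m, c i ^ (e i j * g j) := Finset.prod_comm
    _ = _ := by
        apply Finset.prod_congr rfl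
        intro i _
        rw [zpow_sum_rg]

theorem prod_zpow_delta (a : ℕ → G) {n j : ℕ} (hj : j < n) :
    ∏ k ∈ Finset.range n, a k ^ (if k = j then (1 : ℤ) else 0) = a j := by
  rw [Finset.prod_eq_single j]
  · rw [if_pos rfl, zpow_one]
  · intro k _ hk
    rw [if_neg hk, zpow_zero]
  · intro h
    exact absurd (Finset.mem_range.2 hj) h

end algebra

variable {D : ChevalleyDatum} {F : Type*} [Field F]

theorem rootChar_congr {a b : ℕ → Fˣ} (h : ∀ k < D.rank, a k = b k) (r : ℕ) :
    rootChar D a r = rootChar D b r := by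
  unfold rootChar
  apply Finset.prod_congr rfl
  intro k hk
  rw [h k (Finset.mem_range.1 hk)]

/-- the character of a torus element is the root character with the same values on the
fundamental roots -/
theorem torCharU_eq_rootChar (hL : DiagData D) (c : ℕ → Fˣ) {r : ℕ} (hr : r < D.nroots) :
    torCharU D c r = rootChar D (fun k => torCharU D c (D.simple k)) r := by
  unfold rootChar
  have e : ∏ k ∈ Finset.range D.rank, torCharU D c (D.simple k) ^ mC D k r =
      ∏ i ∈ Finset.range D.rank,
        c i ^ (∑ k ∈ Finset.range D.rank, D.cartan i (D.simple k) * mC D k r) :=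
    prod_zpow_mat c D.rank D.rank (fun i k => D.cartan i (D.simple k)) (fun k => mC D k r)
  rw [e]
  unfold torCharU
  apply Finset.prod_congr rfl
  intro i hi
  rw [← hL.hL r hr i (Finset.mem_range.1 hi)]

/-- the invariant of a root character deciding whether the diagonal automorphism is inner -/
noncomputable def epsChar (D : ChevalleyDatum) (a : ℕ → Fˣ) : Fˣ :=
  ∏ k ∈ Finset.range D.rank, a k ^ mE D k

/-- the parameters of a torus element realising a root character -/
noncomputable def solC (D : ChevalleyDatum) (a : ℕ → Fˣ) (s : Fˣ) (i : ℕ) : Fˣ :=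
  (∏ k ∈ Finset.range D.rank, a k ^ nE D i k) * s ^ wE D i

theorem torCharU_solC (hL : DiagData D) (a : ℕ → Fˣ) (s : Fˣ) (hs : epsChar D a = s ^ cDet D)
    {j : ℕ} (hj : j < D.rank) : torCharU D (solC D a s) (D.simple j) = a j := by
  unfold torCharU solC
  simp only [mul_zpow]
  rw [Finset.prod_mul_distrib]
  have e1 : ∏ i ∈ Finset.range D.rank,
      (∏ k ∈ Finset.range D.rank, a k ^ nE D i k) ^ D.cartan i (D.simple j) =
      ∏ k ∈ Finset.range D.rank,
        a k ^ (∑ i ∈ Finset.range D.rank, nE D i k * D.cartan i (D.simple j)) :=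
    prod_zpow_mat a D.rank D.rank (fun k i => nE D i k) (fun i => D.cartan i (D.simple j))
  have e2 : ∏ k ∈ Finset.range D.rank,
        a k ^ (∑ i ∈ Finset.range D.rank, nE D i k * D.cartan i (D.simple j)) =
      a j * (epsChar D a) ^ (-vE D j) := by
    have : ∀ k ∈ Finset.range D.rank,
        a k ^ (∑ i ∈ Finset.range D.rank, nE D i k * D.cartan i (D.simple j)) =
        a k ^ (if k = j then (1 : ℤ) else 0) * (a k ^ mE D k) ^ (-vE D j) := by
      intro k hk
      rw [hL.hN j hj k (Finset.mem_range.1 hk), zpow_add, zpow_mul]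
    rw [Finset.prod_congr rfl this, Finset.prod_mul_distrib, prod_zpow_delta a hj,
      Finset.prod_zpow]
    rfl
  have e3 : ∏ i ∈ Finset.range D.rank, (s ^ wE D i) ^ D.cartan i (D.simple j) =
      s ^ (cDet D * vE D j) := by
    rw [← hL.hW j hj, zpow_sum_rg]
    apply Finset.prod_congr rfl
    intro i _
    rw [zpow_mul]
  rw [e1, e2, e3, hs, ← zpow_mul, mul_assoc, ← zpow_add]
  have : cDet D * -vE D j + cDet D * vE D j = 0 := by ring
  rw [this, zpow_zero, mul_one]

/-- criterion for a diagonal automorphism to be inner -/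
theorem diagAut_inner_of_eps (hD : IsOutType D) (Δ : BNData D F) (a : ℕ → Fˣ) (s : Fˣ)
    (hs : epsChar D a = s ^ cDet D) (y : ↥(D.group F)) :
    diagAut Δ.hB (rootChar D a) (isRootCharacter_rootChar hD.tab Δ a) y =
      torG Δ (solC D a s) * y * (torG Δ (solC D a s))⁻¹ := by
  have hL := diagData_of_outType hD
  apply diagAut_eq_conj
  intro r hr
  rw [torCharU_eq_rootChar hL _ hr]
  exact rootChar_congr (fun k hk => torCharU_solC hL a s hs hk) r

/-- the invariant of the character of a torus element is a `d`-th power -/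
theorem epsChar_torCharU (hL : DiagData D) (c : ℕ → Fˣ) :
    ∃ s : Fˣ, epsChar D (fun k => torCharU D c (D.simple k)) = s ^ cDet D := by
  refine ⟨∏ i ∈ Finset.range D.rank, c i ^
    ((∑ k ∈ Finset.range D.rank, D.cartan i (D.simple k) * mE D k) / cDet D), ?_⟩
  unfold epsChar
  have e : ∏ k ∈ Finset.range D.rank, torCharU D c (D.simple k) ^ mE D k =
      ∏ i ∈ Finset.range D.rank,
        c i ^ (∑ k ∈ Finset.range D.rank, D.cartan i (D.simple k) * mE D k) :=
    prod_zpow_mat c D.rank D.rank (fun i k => D.cartan i (D.simple k)) (fun k => mE D k)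
  rw [e, ← Finset.prod_zpow]
  apply Finset.prod_congr rfl
  intro i hi
  rw [← zpow_mul, Int.ediv_mul_cancel (hL.hM i (Finset.mem_range.1 hi))]

end Cfsg.Agent.Helper2.Aut
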