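import Mathlib
import Cfsg.Agent.Helper2.Aut.OutC
import Cfsg.Agent.Helper2.Aut.Fun

set_option autoImplicit false
set_option linter.unusedSectionVars false
set_option linter.unusedSimpArgs false
set_option linter.unusedVariables false

/-! Outer automorphism groups of Chevalley groups, part D: the symmetries of the Dynkin diagram,
automorphisms of graph shape preserve `U` and `V`, and uniqueness of the shape of an automorphism
up to inner automorphisms. -/

namespace Cfsg.Agent.Helper2.Aut

open Cfsg.Lie Cfsg.Agent.Helper6 Cfsg.Agent.Helper2.BN Cfsg.Agent.Helper2.Levi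

/-! ### Symmetries of the Dynkin diagram -/

/-- weighted adjacency of the Dynkin diagram -/
def adjW (D : ChevalleyDatum) (i j : ℕ) : ℤ := if i = j then 0 else D.bonds i j

/-- one step of the walk count -/
def wStep (D : ChevalleyDatum) (v : List ℤ) : List ℤ :=
  (List.range D.rank).map fun i =>
    ((List.range D.rank).map fun j => adjW D i j * v.getD j 0).sum

/-- iterated walk counts with initial weights `m` -/
def wIter (D : ChevalleyDatum) (m : List ℤ) : ℕ → List ℤ
  | 0 => m
  | k + 1 => wStep D (wIter D m k)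

/-- indicator weights -/
def indL (D : ChevalleyDatum) (b : ℕ) : List ℤ :=
  (List.range D.rank).map fun i => if i = b then 1 else 0

/-- constant weights -/
def onesL (D : ChevalleyDatum) : List ℤ := (List.range D.rank).map fun _ => 1

/-- the nontrivial symmetry of the diagram, if any -/
def flipL (D : ChevalleyDatum) : List ℕ :=
  if D.nroots = 12 then [1, 0] else if D.nroots = 48 then [3, 2, 1, 0]
  else if D.nroots = 72 then [5, 1, 4, 3, 2, 0] else []

def flE (D : ChevalleyDatum) (i : ℕ) : ℕ := (flipL D).getD i i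

/-- the certificate for the symmetries of the diagram -/
def symChk (D : ChevalleyDatum) : Bool :=
  decide (0 < D.rank) &&
  (allLt D.rank fun j => Nat.beq j 0 || Nat.beq j (flE D 0) ||
    anyLt 4 fun k => !decide ((wIter D (onesL D) k).getD j 0 = (wIter D (onesL D) k).getD 0 0)) &&
  (allLt D.rank fun i => allLt D.rank fun j => Nat.beq j i ||
    anyLt 6 fun k => !decide ((wIter D (indL D 0) k).getD j 0 = (wIter D (indL D 0) k).getD i 0)) &&
  (allLt D.rank fun i => allLt D.rank fun j => Nat.beq j (flE D i) ||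
    anyLt 6 fun k =>
      !decide ((wIter D (indL D (flE D 0)) k).getD j 0 = (wIter D (indL D 0) k).getD i 0))

set_option maxRecDepth 100000 in
theorem symChk_of_outType {D : ChevalleyDatum} (hD : IsOutType D) : symChk D = true := by
  simp only [IsOutType, List.mem_cons, List.not_mem_nil, or_false] at hD
  rcases hD with rfl | rfl | rfl | rfl | rfl <;> decide +kernel

theorem getD_map_range (n : ℕ) (f : ℕ → ℤ) {i : ℕ} (hi : i < n) :
    ((List.range n).map f).getD i 0 = f i := by
  simp [List.getD_eq_getElem?_getD, hi]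

variable {D : ChevalleyDatum}

/-- compatibility of two weight lists with a permutation -/
def InvL (π : Equiv.Perm (Fin D.rank)) (v v' : List ℤ) : Prop :=
  ∀ i : Fin D.rank, v'.getD (π i) 0 = v.getD i 0

theorem adjW_perm {π : Equiv.Perm (Fin D.rank)} (hπ : D.IsDiagramSymmetry π) (i j : Fin D.rank) :
    adjW D (π i) (π j) = adjW D i j := by
  unfold adjW
  by_cases h : i = j
  · subst h; simp
  · have h1 : (i : ℕ) ≠ j := fun e => h (Fin.ext e)
    have h2 : ((π i : Fin D.rank) : ℕ) ≠ π j := fun e => h (π.injective (Fin.ext e))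
    rw [if_neg h1, if_neg h2]
    exact hπ i j h

theorem InvL.step {π : Equiv.Perm (Fin D.rank)} (hπ : D.IsDiagramSymmetry π) {v v' : List ℤ}
    (h : InvL π v v') : InvL π (wStep D v) (wStep D v') := by
  intro i
  unfold wStep
  rw [getD_map_range _ _ (π i).2, getD_map_range _ _ i.2, sum_list_range, sum_list_range,
    Finset.sum_range, Finset.sum_range, ← Equiv.sum_comp π]
  apply Finset.sum_congr rfl
  intro j _
  rw [adjW_perm hπ, h j]

theorem InvL.iter {π : Equiv.Perm (Fin D.rank)} (hπ : D.IsDiagramSymmetry π) {m m' : List ℤ}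
    (h : InvL π m m') (k : ℕ) : InvL π (wIter D m k) (wIter D m' k) := by
  induction k with
  | zero => exact h
  | succ k ih => exact ih.step hπ

/-- a symmetry of the diagram is the identity or the flip -/
theorem sym_cases (hD : IsOutType D) {π : Equiv.Perm (Fin D.rank)} (hπ : D.IsDiagramSymmetry π) :
    (∀ i : Fin D.rank, ((π i : Fin D.rank) : ℕ) = i) ∨
      (∀ i : Fin D.rank, ((π i : Fin D.rank) : ℕ) = flE D i) := by
  have h := symChk_of_outType hD
  simp only [symChk, Bool.and_eq_true, allLt_iff, anyLt_iff, Bool.or_eq_true, Nat.beq_eq,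
    decide_eq_true_eq, Bool.not_eq_true', decide_eq_false_iff_not] at h
  obtain ⟨⟨⟨h0, h1⟩, h2⟩, h3⟩ := h
  obtain ⟨i0, hi0⟩ : ∃ i0 : Fin D.rank, (i0 : ℕ) = 0 := ⟨⟨0, h0⟩, rfl⟩
  have hI : InvL π (onesL D) (onesL D) := by
    intro i
    unfold onesL
    rw [getD_map_range _ _ (π i).2, getD_map_range _ _ i.2]
  have hb : ((π i0 : Fin D.rank) : ℕ) = 0 ∨ ((π i0 : Fin D.rank) : ℕ) = flE D 0 := by
    rcases h1 _ (π i0).2 with hc | ⟨k, _, hk⟩
    · exact hc
    · exact absurd (by rw [(hI.iter hπ k) i0, hi0]) hk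
  have key : ∀ b : ℕ, ((π i0 : Fin D.rank) : ℕ) = b → InvL π (indL D 0) (indL D b) := by
    intro b hb i
    unfold indL
    rw [getD_map_range _ _ (π i).2, getD_map_range _ _ i.2]
    by_cases hi : i = i0
    · subst hi
      rw [if_pos hb, if_pos hi0]
    · have e1 : ((π i : Fin D.rank) : ℕ) ≠ b := by
        rw [← hb]
        exact fun e => hi (π.injective (Fin.ext e))
      have e2 : (i : ℕ) ≠ 0 := by
        rw [← hi0]
        exact fun e => hi (Fin.ext e)
      rw [if_neg e1, if_neg e2]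
  rcases hb with hb | hb
  · left
    intro i
    rcases h2 i i.2 _ (π i).2 with hc | ⟨k, _, hk⟩
    · exact hc
    · exact absurd ((key 0 hb).iter hπ k i) hk
  · right
    intro i
    rcases h3 i i.2 _ (π i).2 with hc | ⟨k, _, hk⟩
    · exact hc
    · exact absurd ((key _ hb).iter hπ k i) hk

/-! ### The root permutation of a graph automorphism -/

/-- the root permutation induced by the flip -/
def rhoT (D : ChevalleyDatum) : List ℕ :=
  if D.nroots = 12 then [2, 3, 0, 1, 5, 4, 7, 6, 10, 11, 8, 9]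
  else if D.nroots = 48 then
    [3, 7, 8, 0, 9, 11, 18, 1, 2, 4, 15, 5, 16, 21, 23, 10, 12, 19, 6, 17, 22, 13, 20, 14, 33, 27,
    34, 25, 30, 41, 28, 35, 37, 24, 26, 31, 42, 32, 43, 45, 46, 29, 36, 38, 47, 39, 40, 44]
  else if D.nroots = 72 then
    [0, 1, 2, 5, 16, 3, 6, 17, 8, 19, 22, 11, 26, 30, 33, 35, 4, 7, 18, 9, 20, 23, 10, 21, 24, 25,
    12, 27, 31, 34, 13, 28, 32, 14, 29, 15, 56, 42, 57, 39, 43, 58, 37, 40, 44, 59, 46, 47, 50, 61,
    48, 51, 62, 53, 64, 67, 36, 38, 41, 45, 60, 49, 52, 63, 54, 65, 68, 55, 66, 69, 70, 71]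
  else []

def rhoE (D : ChevalleyDatum) (r : ℕ) : ℕ := (rhoT D).getD r r

/-- the certificate: `ρ` is compatible with the fundamental reflections and the signs -/
def rhoChk (D : ChevalleyDatum) : Bool :=
  (allLt D.rank fun i => Nat.beq (rhoE D (D.simple i)) (D.simple (flE D i)) &&
    Nat.blt (flE D i) D.rank && Nat.beq (flE D (flE D i)) i) &&
  (allLt D.nroots fun s => Nat.blt (rhoE D s) D.nroots &&
    (Nat.ble (D.nroots / 2) (rhoE D s) == Nat.ble (D.nroots / 2) s) &&
    allLt D.rank fun i => Nat.beq (rhoE D (wD D i s)) (wD D (flE D i) (rhoE D s)))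

set_option maxRecDepth 100000 in
theorem rhoChk_of_outType {D : ChevalleyDatum} (hD : IsOutType D) : rhoChk D = true := by
  simp only [IsOutType, List.mem_cons, List.not_mem_nil, or_false] at hD
  rcases hD with rfl | rfl | rfl | rfl | rfl <;> decide +kernel

/-- the certificate, unfolded -/
structure RhoData (D : ChevalleyDatum) : Prop where
  simple : ∀ i < D.rank, rhoE D (D.simple i) = D.simple (flE D i)
  fl_lt : ∀ i < D.rank, flE D i < D.rank
  fl_fl : ∀ i < D.rank, flE D (flE D i) = i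
  lt : ∀ s < D.nroots, rhoE D s < D.nroots
  sign : ∀ s < D.nroots, (D.nroots / 2 ≤ rhoE D s ↔ D.nroots / 2 ≤ s)
  refl : ∀ s < D.nroots, ∀ i < D.rank,
    rhoE D (wR D (D.simple i) s) = wR D (D.simple (flE D i)) (rhoE D s)

variable {F : Type*} [Field F]

theorem rhoData_of_outType (hD : IsOutType D) (Δ : BNData D F) : RhoData D := by
  have h := rhoChk_of_outType hD
  simp only [rhoChk, Bool.and_eq_true, allLt_iff, Nat.beq_eq, Nat.blt_eq, beq_iff_eq] at h
  obtain ⟨h1, h2⟩ := h
  have hw : ∀ i < D.rank, ∀ s < D.nroots, wD D i s = wR D (D.simple i) s := fun i hi s hs =>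
    wD_eq Δ.hF Δ.hn (fun s hs => wR_lt Δ.hB (Δ.hAll i hi).hS.1 (Δ.hAll i hi).hR hs) hs
  refine ⟨fun i hi => (h1 i hi).1.1, fun i hi => (h1 i hi).1.2, fun i hi => (h1 i hi).2,
    fun s hs => (h2 s hs).1.1, fun s hs => ?_, fun s hs i hi => ?_⟩
  · have := (h2 s hs).1.2
    have e1 : (D.nroots / 2 ≤ rhoE D s) = (Nat.ble (D.nroots / 2) (rhoE D s) = true) :=
      Nat.ble_eq.symm
    have e2 : (D.nroots / 2 ≤ s) = (Nat.ble (D.nroots / 2) s = true) := Nat.ble_eq.symm
    rw [e1, e2, this]
  · have := (h2 s hs).2 i hi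
    rw [hw i hi s hs, hw _ (h1 i hi).1.2 _ (h2 s hs).1.1] at this
    exact this

/-- an automorphism of graph shape maps every root subgroup into the root subgroup given by `ρ` -/
theorem shape_all_roots (R : RhoData D) (Δ : BNData D F) {γ : ↥(D.group F) ≃* ↥(D.group F)}
    (hpos : ∀ i < D.rank, ∀ t : F, ∃ t' : F,
      γ (xG Δ.hB (D.simple i) t) = xG Δ.hB (D.simple (flE D i)) t')
    (hs : ∀ i < D.rank, γ (sG Δ i) = sG Δ (flE D i)) :
    ∀ r < D.nroots, ∀ t : F, ∃ t' : F, γ (xG Δ.hB r t) = xG Δ.hB (rhoE D r) t' := by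
  intro r hr
  have hR := Δ.hReach r hr
  clear hr
  induction hR with
  | @simple i hi =>
    intro t
    obtain ⟨t', ht'⟩ := hpos i hi t
    exact ⟨t', by rw [ht', R.simple i hi]⟩
  | @step i s hi hs' _ ih =>
    intro t
    obtain ⟨η, hη⟩ : ∃ η : ℤ, η = etaR D (D.simple i) s := ⟨_, rfl⟩
    have hη2 : ((η : ℤ) : F) * (((η : ℤ) : F) * t) = t := by
      rcases ((Δ.hAll i hi).hE.2 s hs').1 with h | h <;> rw [hη, h] <;> push_cast <;> ring
    have e : xG Δ.hB (wR D (D.simple i) s) t =
        sG Δ i * xG Δ.hB s (((η : ℤ) : F) * t) * (sG Δ i)⁻¹ := by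
      rw [sG_conj_xG Δ hi hs', ← hη, hη2]
    obtain ⟨t', ht'⟩ := ih (((η : ℤ) : F) * t)
    rw [e, map_mul, map_mul, map_inv, hs i hi, ht', sG_conj_xG Δ (R.fl_lt i hi) (R.lt s hs'),
      ← R.refl s hs' i hi]
    exact ⟨_, rfl⟩

/-- an automorphism permuting the root subgroups compatibly with the signs preserves `U`, `V` -/
theorem pres_of_root_perm [Finite F] (Δ : BNData D F) {φ : ↥(D.group F) ≃* ↥(D.group F)}
    {ρ : ℕ → ℕ} (hlt : ∀ s < D.nroots, ρ s < D.nroots)
    (hsign : ∀ s < D.nroots, (D.nroots / 2 ≤ ρ s ↔ D.nroots / 2 ≤ s))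
    (h : ∀ r < D.nroots, ∀ t : F, ∃ t' : F, φ (xG Δ.hB r t) = xG Δ.hB (ρ r) t') :
    Pres φ (UG D F) ∧ Pres φ (VG D F) := by
  constructor
  · apply pres_of_maps
    intro y hy
    rw [UG_eq_closure Δ.hB] at hy ⊢
    induction hy using Subgroup.closure_induction with
    | mem y hy =>
      obtain ⟨r, t, hr, rfl⟩ := hy
      obtain ⟨t', ht'⟩ := h r hr.1 t
      rw [ht']
      refine Subgroup.subset_closure ⟨ρ r, t', ?_, rfl⟩
      rw [Δ.hsign' _ (hlt r hr.1), hsign r hr.1, ← Δ.hsign' r hr.1]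
      exact hr
    | one => rw [map_one]; exact Subgroup.one_mem _
    | mul a b _ _ iha ihb => rw [map_mul]; exact Subgroup.mul_mem _ iha ihb
    | inv a _ iha => rw [map_inv]; exact Subgroup.inv_mem _ iha
  · apply pres_of_maps
    intro y hy
    rw [VG_eq_closure Δ.hB] at hy ⊢
    induction hy using Subgroup.closure_induction with
    | mem y hy =>
      obtain ⟨r, t, hr, rfl⟩ := hy
      obtain ⟨t', ht'⟩ := h r hr.1 t
      rw [ht']
      refine Subgroup.subset_closure ⟨ρ r, t', ?_, rfl⟩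
      have h1 := (Δ.hsign r hr.1).2
      have h2 := (Δ.hsign _ (hlt r hr.1)).2
      rw [h2]
      have h3 := h1.1 hr
      have h4 := hsign r hr.1
      omega
    | one => rw [map_one]; exact Subgroup.one_mem _
    | mul a b _ _ iha ihb => rw [map_mul]; exact Subgroup.mul_mem _ iha ihb
    | inv a _ iha => rw [map_inv]; exact Subgroup.inv_mem _ iha

end Cfsg.Agent.Helper2.Aut
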