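import Mathlib
import Cfsg.Agent.Helper2.Aut.OutD
import Cfsg.Agent.Helper2.Aut.Main

set_option autoImplicit false
set_option linter.unusedSectionVars false
set_option linter.unusedSimpArgs false
set_option linter.unusedVariables false

/-! Outer automorphism groups of Chevalley groups, part E: shapes of the standard automorphisms,
uniqueness of the shape up to inner automorphisms, and the decomposition of a class in `Out`. -/

namespace Cfsg.Agent.Helper2.Aut

open Cfsg.Lie Cfsg.Agent.Helper6 Cfsg.Agent.Helper2.BN Cfsg.Agent.Helper2.Levi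

variable {D : ChevalleyDatum} {F : Type*} [Field F]

theorem Pres.mul {G : Type*} [Group G] {θ θ' : G ≃* G} {K : Subgroup G} (h' : Pres θ' K)
    (h : Pres θ K) : Pres (θ' * θ : MulAut G) K := fun y => (h' (θ y)).trans (h y)

theorem Pres.refl {G : Type*} [Group G] (K : Subgroup G) : Pres (MulEquiv.refl G) K :=
  fun y => Iff.rfl

/-- an element conjugating one automorphism preserving `U`, `V` to another lies in `H` -/
theorem mem_HG_of_conj [Finite F] (hD : IsTabulated D) (Δ : BNData D F)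
    {θ θ' : ↥(D.group F) ≃* ↥(D.group F)}
    (hU : Pres θ (UG D F)) (hV : Pres θ (VG D F)) (hU' : Pres θ' (UG D F))
    (hV' : Pres θ' (VG D F)) {x : ↥(D.group F)} (h : ∀ y, θ y = x * θ' y * x⁻¹) :
    x ∈ HG D F := by
  have key : ∀ z, x * z * x⁻¹ = θ (θ'.symm z) := fun z => by
    rw [h, MulEquiv.apply_symm_apply]
  apply mem_HG_of_normalizes hD Δ
  · intro z
    rw [key, hU]
    exact hU'.symm z
  · intro z
    rw [key, hV]
    exact hV'.symm z

/-- the shape of an automorphism is determined by its class modulo `H` -/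
theorem shape_unique [Finite F] (hD : IsTabulated D) (Δ : BNData D F)
    {θ θ' : ↥(D.group F) ≃* ↥(D.group F)} {π π' : Equiv.Perm (Fin D.rank)}
    {f g f' g' : Fin D.rank → F → F} (S : Shape Δ θ π f g) (S' : Shape Δ θ' π' f' g')
    {x : ↥(D.group F)} (hx : x ∈ HG D F) (h : ∀ y, θ y = x * θ' y * x⁻¹) :
    π = π' ∧ ∃ c : Fin D.rank → F, ∀ (i : Fin D.rank) (t : F), f i t = c i * f' i t := by
  have hc : ∀ i : Fin D.rank, ∃ c : F, ∀ t : F,
      x * xG Δ.hB (D.simple (π' i)) t * x⁻¹ = xG Δ.hB (D.simple (π' i)) (c * t) := by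
    intro i
    obtain ⟨c, hc⟩ := Δ.diag_conj_xU (mem_HG.1 hx) (simple_lt Δ (π' i).2)
    exact ⟨c, fun t => Subtype.ext (by
      simp only [Subgroup.coe_mul, Subgroup.coe_inv, xG_coe]; exact hc t)⟩
  choose c hc using hc
  have key : ∀ (i : Fin D.rank) (t : F), xG Δ.hB (D.simple (π i)) (f i t) =
      xG Δ.hB (D.simple (π' i)) (c i * f' i t) := by
    intro i t
    rw [← S.pos, h, S'.pos, hc]
  have hπ : ∀ i, π i = π' i := by
    intro i
    have h1 : f i 1 ≠ 0 := fun h0 => one_ne_zero (S.f_eq_zero i h0)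
    have h2 := congrArg Subtype.val (key i 1)
    simp only [xG_coe] at h2
    have h3 := Cfsg.Agent.Helper2.HRoot.root_unique hD Δ (Δ.hpN _ (π' i).2)
      (simple_lt Δ (π' i).2) (simple_lt Δ (π i).2) h1 h2
    exact Fin.ext (simple_injective Δ (π i).2 (π' i).2 h3)
  refine ⟨Equiv.ext hπ, c, fun i t => ?_⟩
  have := key i t
  rw [hπ i] at this
  exact xG_inj Δ (simple_lt Δ (π' i).2) this

/-! ### Shapes of the standard automorphisms -/

theorem shape_fieldAut (hD : IsTabulated D) (Δ : BNData D F) (σ : F ≃+* F) :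
    Shape Δ (fieldAut hD σ) 1 (fun _ t => σ t) (fun _ t => σ t) :=
  ⟨fun i t => by rw [fieldAut_xG hD Δ.hB σ (simple_lt Δ i.2)]; rfl,
    fun i t => by rw [fieldAut_xG hD Δ.hB σ (neg_simple_lt Δ i.2)]; rfl⟩

theorem shape_diagAut (Δ : BNData D F) (χ : ℕ → Fˣ) (hχ : D.IsRootCharacter χ) :
    Shape Δ (diagAut Δ.hB χ hχ) 1 (fun i t => ((χ (D.simple i) : Fˣ) : F) * t)
      (fun i t => ((χ (D.neg (D.simple i)) : Fˣ) : F) * t) :=
  ⟨fun i t => by rw [diagAut_xG Δ.hB χ hχ (simple_lt Δ i.2)]; rfl,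
    fun i t => by rw [diagAut_xG Δ.hB χ hχ (neg_simple_lt Δ i.2)]; rfl⟩

theorem Shape.mul {Δ : BNData D F} {θ θ' : ↥(D.group F) ≃* ↥(D.group F)}
    {π π' : Equiv.Perm (Fin D.rank)} {f g f' g' : Fin D.rank → F → F}
    (S' : Shape Δ θ' π' f' g') (S : Shape Δ θ π f g) :
    Shape Δ (θ' * θ : MulAut ↥(D.group F)) (π' * π) (fun i t => f' (π i) (f i t))
      (fun i t => g' (π i) (g i t)) :=
  ⟨fun i t => by
    show θ' (θ _) = _
    rw [S.pos, S'.pos]; rfl,
   fun i t => by
    show θ' (θ _) = _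
    rw [S.neg, S'.neg]; rfl⟩

theorem pres_fieldAut [Finite F] (hD : IsTabulated D) (Δ : BNData D F) (σ : F ≃+* F) :
    Pres (fieldAut hD σ) (UG D F) ∧ Pres (fieldAut hD σ) (VG D F) :=
  pres_of_root_stable Δ.hB (fun r t hr => ⟨σ t, fieldAut_xG hD Δ.hB σ hr t⟩)

theorem pres_diagAut [Finite F] (Δ : BNData D F) (χ : ℕ → Fˣ) (hχ : D.IsRootCharacter χ) :
    Pres (diagAut Δ.hB χ hχ) (UG D F) ∧ Pres (diagAut Δ.hB χ hχ) (VG D F) :=
  pres_of_root_stable Δ.hB (fun r t hr => ⟨_, diagAut_xG Δ.hB χ hχ hr t⟩)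

/-! ### Automorphisms of graph shape -/

/-- `γ` acts on the fundamental root elements as a graph automorphism for `π` -/
def GShape (Δ : BNData D F) (γ : ↥(D.group F) ≃* ↥(D.group F)) (π : Equiv.Perm (Fin D.rank)) :
    Prop :=
  Shape Δ γ π (fun i t => t ^ D.graphExp (ringChar F) i (π i))
    (fun i t => t ^ D.graphExp (ringChar F) i (π i))

theorem graphExp_self (c i : ℕ) : D.graphExp c i i = 1 := by
  unfold ChevalleyDatum.graphExp
  cases D.isLong (D.simple i) <;> simp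

theorem GShape.unique (hD : IsTabulated D) {Δ : BNData D F} {γ γ' : ↥(D.group F) ≃* ↥(D.group F)}
    {π : Equiv.Perm (Fin D.rank)} (h : GShape Δ γ π) (h' : GShape Δ γ' π) : γ = γ' :=
  mulEquiv_ext_fund hD Δ (fun i t => by rw [h.pos, h'.pos]) (fun i t => by rw [h.neg, h'.neg])

theorem gShape_refl (Δ : BNData D F) : GShape Δ (MulEquiv.refl _) 1 :=
  ⟨fun i t => by
    show xG _ _ t = xG _ (D.simple ((1 : Equiv.Perm (Fin D.rank)) i)) _
    rw [Equiv.Perm.one_apply, graphExp_self, pow_one],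
   fun i t => by
    show xG _ _ t = xG _ (D.neg (D.simple ((1 : Equiv.Perm (Fin D.rank)) i))) _
    rw [Equiv.Perm.one_apply, graphExp_self, pow_one]⟩

theorem perm_eq_one_of_val {n : ℕ} {π : Equiv.Perm (Fin n)}
    (hπ : ∀ i : Fin n, ((π i : Fin n) : ℕ) = i) : π = 1 :=
  Equiv.ext fun i => Fin.ext (hπ i)

theorem GShape.eq_refl (hD : IsTabulated D) {Δ : BNData D F} {γ : ↥(D.group F) ≃* ↥(D.group F)}
    {π : Equiv.Perm (Fin D.rank)} (h : GShape Δ γ π)
    (hπ : ∀ i : Fin D.rank, ((π i : Fin D.rank) : ℕ) = i) : γ = MulEquiv.refl _ := by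
  have e := perm_eq_one_of_val hπ
  subst e
  exact h.unique hD (gShape_refl Δ)

/-- an automorphism of graph shape preserves `U` and `V` -/
theorem GShape.pres [Finite F] (hD : IsOutType D) {Δ : BNData D F}
    {γ : ↥(D.group F) ≃* ↥(D.group F)} {π : Equiv.Perm (Fin D.rank)}
    (hsym : D.IsDiagramSymmetry π) (h : GShape Δ γ π) :
    Pres γ (UG D F) ∧ Pres γ (VG D F) := by
  rcases sym_cases hD hsym with hπ | hπ
  · rw [h.eq_refl hD.tab hπ]
    exact ⟨Pres.refl _, Pres.refl _⟩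
  · have R := rhoData_of_outType hD Δ
    have h1 : ∀ i : Fin D.rank, (fun (i : Fin D.rank) (t : F) =>
        t ^ D.graphExp (ringChar F) i (π i)) i 1 = 1 := fun i => one_pow _
    have hall := shape_all_roots R Δ (γ := γ)
      (fun i hi t => ⟨_, by
        have := h.pos ⟨i, hi⟩ t
        rw [hπ ⟨i, hi⟩] at this
        exact this⟩)
      (fun i hi => by
        have := Shape.map_sG h h1 hD.tab ⟨i, hi⟩
        rw [hπ ⟨i, hi⟩] at this
        exact this)
    exact pres_of_root_perm Δ R.lt R.sign hall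

/-! ### Decomposition of a class in `Out` -/

/-- every class in `Out` is a product of classes of a diagonal, a graph-shaped and a field
automorphism -/
theorem out_decomp [Finite F] (hD : IsOutType D) (Δ : BNData D F)
    (θ : MulAut ↥(D.group F)) :
    ∃ (a : ℕ → Fˣ) (σ : F ≃+* F) (π : Equiv.Perm (Fin D.rank))
      (γ : ↥(D.group F) ≃* ↥(D.group F)), D.IsDiagramSymmetry π ∧ GShape Δ γ π ∧
      outMk _ θ = (outMk _ (diagAut Δ.hB (rootChar D a)
        (isRootCharacter_rootChar hD.tab Δ a)))⁻¹ * outMk _ γ * psiHom hD.tab Δ.hB σ := by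
  obtain ⟨x, a, γ, fσ, π, σ, hπ, hγ1, hγ2, hfσ, hθ⟩ := steinberg_explicit hD.tab Δ θ
  have e : fσ = fieldAut hD.tab σ := by
    apply mulEquiv_ext_xG Δ.hB
    intro r t hr
    rw [hfσ r t hr, fieldAut_xG hD.tab Δ.hB σ hr]
  subst e
  refine ⟨a, σ, π, γ, hπ, ⟨hγ1, hγ2⟩, ?_⟩
  rw [psiHom_apply, ← map_inv, ← map_mul, ← map_mul, outMk_eq_iff]
  exact ⟨x, fun y => hθ y⟩

end Cfsg.Agent.Helper2.Aut
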