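import Mathlib
import Cfsg.Agent.Helper2.Aut.OutS2

set_option autoImplicit false
set_option linter.unusedSectionVars false
set_option linter.unusedSimpArgs false
set_option linter.unusedVariables false

/-! The classes of the diagonal automorphisms of the Chevalley group of type `D₄` over a finite
field with `q` elements: their number is `gcd(2, q - 1) ^ 2`. A diagonal automorphism with values
`a₀, a₁, a₂, a₃` on the fundamental roots (the node `1` is the centre of the diagram) is inner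
exactly when `a₀ a₂` and `a₀ a₃` are squares. -/

namespace Cfsg.Agent.Helper2.Aut

open Cfsg.Lie Cfsg.Agent.Helper6 Cfsg.Agent.Helper2.BN Cfsg.Agent.Helper2.Levi

variable {F : Type*} [Field F]

/-- the coordinates of the roots with respect to the fundamental roots are compatible with the
Cartan integers -/
def lChkD4 : Bool :=
  allLt chevD4.nroots fun r => allLt chevD4.rank fun i =>
    decide (chevD4.cartan i r =
      ((List.range chevD4.rank).map fun k => chevD4.cartan i (chevD4.simple k) * mC chevD4 k r).sum)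

theorem lChkD4_eq : lChkD4 = true := by decide +kernel

theorem hL_D4 : ∀ r < chevD4.nroots, ∀ i < chevD4.rank,
    chevD4.cartan i r =
      ∑ k ∈ Finset.range chevD4.rank, chevD4.cartan i (chevD4.simple k) * mC chevD4 k r := by
  have h := lChkD4_eq
  simp only [lChkD4, allLt_iff, decide_eq_true_eq] at h
  intro r hr i hi
  rw [← sum_list_range]
  exact h r hr i hi

/-- the character of a torus element is the root character with the same values on the
fundamental roots -/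
theorem torCharU_eq_rootChar_D4 (c : ℕ → Fˣ) {r : ℕ} (hr : r < chevD4.nroots) :
    torCharU chevD4 c r = rootChar chevD4 (fun k => torCharU chevD4 c (chevD4.simple k)) r := by
  unfold rootChar
  have e : ∏ k ∈ Finset.range chevD4.rank, torCharU chevD4 c (chevD4.simple k) ^ mC chevD4 k r =
      ∏ i ∈ Finset.range chevD4.rank,
        c i ^ (∑ k ∈ Finset.range chevD4.rank,
          chevD4.cartan i (chevD4.simple k) * mC chevD4 k r) :=
    prod_zpow_mat c chevD4.rank chevD4.rank (fun i k => chevD4.cartan i (chevD4.simple k))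
      (fun k => mC chevD4 k r)
  rw [e]
  unfold torCharU
  apply Finset.prod_congr rfl
  intro i hi
  rw [← hL_D4 r hr i (Finset.mem_range.1 hi)]

theorem rank_D4 : chevD4.rank = 4 := by decide

theorem cartanD4_vals :
    chevD4.cartan 0 (chevD4.simple 0) = 2 ∧ chevD4.cartan 1 (chevD4.simple 0) = -1 ∧
    chevD4.cartan 2 (chevD4.simple 0) = 0 ∧ chevD4.cartan 3 (chevD4.simple 0) = 0 ∧
    chevD4.cartan 0 (chevD4.simple 1) = -1 ∧ chevD4.cartan 1 (chevD4.simple 1) = 2 ∧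
    chevD4.cartan 2 (chevD4.simple 1) = -1 ∧ chevD4.cartan 3 (chevD4.simple 1) = -1 ∧
    chevD4.cartan 0 (chevD4.simple 2) = 0 ∧ chevD4.cartan 1 (chevD4.simple 2) = -1 ∧
    chevD4.cartan 2 (chevD4.simple 2) = 2 ∧ chevD4.cartan 3 (chevD4.simple 2) = 0 ∧
    chevD4.cartan 0 (chevD4.simple 3) = 0 ∧ chevD4.cartan 1 (chevD4.simple 3) = -1 ∧
    chevD4.cartan 2 (chevD4.simple 3) = 0 ∧ chevD4.cartan 3 (chevD4.simple 3) = 2 := by
  decide +kernel

/-- the values of the character of a torus element on the fundamental roots -/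
theorem torCharU_simple_D4 (c : ℕ → Fˣ) :
    torCharU chevD4 c (chevD4.simple 0) = c 0 ^ 2 * (c 1)⁻¹ ∧
    torCharU chevD4 c (chevD4.simple 1) = (c 0)⁻¹ * c 1 ^ 2 * (c 2)⁻¹ * (c 3)⁻¹ ∧
    torCharU chevD4 c (chevD4.simple 2) = (c 1)⁻¹ * c 2 ^ 2 ∧
    torCharU chevD4 c (chevD4.simple 3) = (c 1)⁻¹ * c 3 ^ 2 := by
  obtain ⟨h00, h10, h20, h30, h01, h11, h21, h31, h02, h12, h22, h32, h03, h13, h23, h33⟩ :=
    cartanD4_vals
  unfold torCharU
  rw [rank_D4]
  simp only [Finset.prod_range_succ, Finset.prod_range_zero, one_mul]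
  rw [h00, h10, h20, h30, h01, h11, h21, h31, h02, h12, h22, h32, h03, h13, h23, h33]
  refine ⟨?_, ?_, ?_, ?_⟩ <;> group

/-- the parameters of a torus element realising a root character whose invariants are squares -/
noncomputable def solD4 (a : ℕ → Fˣ) (u v : Fˣ) (i : ℕ) : Fˣ :=
  if i = 0 then a 1 * u * v
  else if i = 1 then (a 1 * u * v) ^ 2 * (a 0)⁻¹
  else if i = 2 then a 1 * u * v * u * (a 0)⁻¹
  else a 1 * u * v * v * (a 0)⁻¹

theorem torCharU_solD4 (a : ℕ → Fˣ) (u v : Fˣ) (hu : a 0 * a 2 = u ^ 2) (hv : a 0 * a 3 = v ^ 2)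
    {j : ℕ} (hj : j < chevD4.rank) : torCharU chevD4 (solD4 a u v) (chevD4.simple j) = a j := by
  obtain ⟨e0, e1, e2, e3⟩ := torCharU_simple_D4 (solD4 a u v)
  have s0 : solD4 a u v 0 = a 1 * u * v := by simp [solD4]
  have s1 : solD4 a u v 1 = (a 1 * u * v) ^ 2 * (a 0)⁻¹ := by simp [solD4]
  have s2 : solD4 a u v 2 = a 1 * u * v * u * (a 0)⁻¹ := by simp [solD4]
  have s3 : solD4 a u v 3 = a 1 * u * v * v * (a 0)⁻¹ := by simp [solD4]
  have ha2 : a 2 = u ^ 2 * (a 0)⁻¹ := by rw [← hu]; exact (mul_inv_cancel_comm _ _).symm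
  have ha3 : a 3 = v ^ 2 * (a 0)⁻¹ := by rw [← hv]; exact (mul_inv_cancel_comm _ _).symm
  rw [rank_D4] at hj
  interval_cases j
  · rw [e0, s0, s1]
    simp only [mul_inv_rev, inv_inv]
    rw [mul_comm (a 0), mul_inv_cancel_left]
  · rw [e1, s0, s1, s2, s3]
    apply Units.ext
    push_cast
    field_simp
  · rw [e2, s1, s2, ha2]
    apply Units.ext
    push_cast
    field_simp
  · rw [e3, s1, s3, ha3]
    apply Units.ext
    push_cast
    field_simp

/-- a diagonal automorphism whose two invariants are squares is inner -/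
theorem outMk_diagA_eq_one_D4 (hD : IsTabulated chevD4) (Δ : BNData chevD4 F) (a : ℕ → Fˣ)
    (u v : Fˣ) (hu : a 0 * a 2 = u ^ 2) (hv : a 0 * a 3 = v ^ 2) :
    outMk _ (diagA hD Δ a) = 1 := by
  rw [outMk_eq_one_iff]
  refine ⟨torG Δ (solD4 a u v), fun y => ?_⟩
  apply diagAut_eq_conj
  intro r hr
  rw [torCharU_eq_rootChar_D4 _ hr]
  exact rootChar_congr (fun k hk => torCharU_solD4 a u v hu hv hk) r

/-- the invariants of an inner diagonal automorphism are squares -/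
theorem sq_of_inner_D4 [Finite F] (hD : IsTabulated chevD4) (Δ : BNData chevD4 F) (a : ℕ → Fˣ)
    (h : outMk _ (diagA hD Δ a) = 1) :
    (∃ u : Fˣ, a 0 * a 2 = u ^ 2) ∧ ∃ v : Fˣ, a 0 * a 3 = v ^ 2 := by
  rw [outMk_eq_one_iff] at h
  obtain ⟨x, h⟩ := h
  have hP := pres_diagAut Δ (rootChar chevD4 a) (isRootCharacter_rootChar hD Δ a)
  have hx : x ∈ HG chevD4 F := mem_HG_of_conj hD Δ hP.1 hP.2 (Pres.refl _) (Pres.refl _)
    (θ' := MulEquiv.refl _) h
  obtain ⟨c, hc, hxc⟩ := exists_torMat_of_mem_diagonal Δ.hB Δ.hH (mem_HG.1 hx)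
  obtain ⟨cU, hcU⟩ : ∃ cU : ℕ → Fˣ, ∀ i, ((cU i : Fˣ) : F) = c i :=
    ⟨fun i => Units.mk0 (c i) (hc i), fun i => rfl⟩
  have ex : x = torG Δ cU := by
    apply Subtype.ext
    apply Units.ext
    rw [hxc]
    show _ = torMat chevD4 F (fun i => ((cU i : Fˣ) : F))
    congr 1
    funext i
    exact (hcU i).symm
  have ha : ∀ j < chevD4.rank, a j = torCharU chevD4 cU (chevD4.simple j) := by
    intro j hj
    have h1 := h (xG Δ.hB (chevD4.simple j) 1)
    rw [diagA_xG hD Δ a (simple_lt Δ hj), rootChar_simple hD Δ a hj, ex] at h1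
    have h2 := congrArg Subtype.val h1
    simp only [Subgroup.coe_mul, Subgroup.coe_inv, xG_coe, torG] at h2
    rw [torU_conj_xU Δ cU (simple_lt Δ hj), torChar_coe] at h2
    have h3 := Cfsg.Agent.Helper2.HRoot.xU_inj' Δ (simple_lt Δ hj) h2
    rw [mul_one, mul_one] at h3
    exact Units.ext h3
  obtain ⟨e0, e1, e2, e3⟩ := torCharU_simple_D4 cU
  have r4 := rank_D4
  have a0 := ha 0 (by rw [r4]; norm_num)
  have a2 := ha 2 (by rw [r4]; norm_num)
  have a3 := ha 3 (by rw [r4]; norm_num)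
  rw [e0] at a0
  rw [e2] at a2
  rw [e3] at a3
  refine ⟨⟨cU 0 * cU 2 * (cU 1)⁻¹, ?_⟩, ⟨cU 0 * cU 3 * (cU 1)⁻¹, ?_⟩⟩
  · rw [a0, a2]
    apply Units.ext
    push_cast
    field_simp
  · rw [a0, a3]
    apply Units.ext
    push_cast
    field_simp

/-- the invariants, modulo squares -/
noncomputable def invD4 (F : Type*) [Field F] :
    (ℕ → Fˣ) →* (Fˣ ⧸ (powMonoidHom 2 : Fˣ →* Fˣ).range) × (Fˣ ⧸ (powMonoidHom 2 : Fˣ →* Fˣ).range) where
  toFun a := (QuotientGroup.mk (a 0 * a 2), QuotientGroup.mk (a 0 * a 3))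
  map_one' := by simp
  map_mul' a b := by
    apply Prod.ext
    · show (QuotientGroup.mk ((a * b) 0 * (a * b) 2) : Fˣ ⧸ _) =
        QuotientGroup.mk (a 0 * a 2) * QuotientGroup.mk (b 0 * b 2)
      rw [← QuotientGroup.mk_mul, Pi.mul_apply, Pi.mul_apply]
      congr 1
      exact mul_mul_mul_comm _ _ _ _
    · show (QuotientGroup.mk ((a * b) 0 * (a * b) 3) : Fˣ ⧸ _) =
        QuotientGroup.mk (a 0 * a 3) * QuotientGroup.mk (b 0 * b 3)
      rw [← QuotientGroup.mk_mul, Pi.mul_apply, Pi.mul_apply]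
      congr 1
      exact mul_mul_mul_comm _ _ _ _

theorem invD4_surjective : Function.Surjective (invD4 F) := by
  rintro ⟨x, y⟩
  obtain ⟨x0, rfl⟩ := QuotientGroup.mk_surjective x
  obtain ⟨y0, rfl⟩ := QuotientGroup.mk_surjective y
  refine ⟨fun i => if i = 2 then x0 else if i = 3 then y0 else 1, ?_⟩
  apply Prod.ext
  · show (QuotientGroup.mk _ : Fˣ ⧸ _) = _
    simp
  · show (QuotientGroup.mk _ : Fˣ ⧸ _) = _
    simp

theorem mk_eq_one_iff_sq (x : Fˣ) :
    (QuotientGroup.mk x : Fˣ ⧸ (powMonoidHom 2 : Fˣ →* Fˣ).range) = 1 ↔ ∃ u : Fˣ, x = u ^ 2 := by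
  rw [QuotientGroup.eq_one_iff, MonoidHom.mem_range]
  constructor
  · rintro ⟨u, hu⟩
    exact ⟨u, by rw [← hu, powMonoidHom_apply]⟩
  · rintro ⟨u, hu⟩
    exact ⟨u, by rw [hu, powMonoidHom_apply]⟩

theorem ker_dbarHom_D4 [Finite F] (hD : IsTabulated chevD4) (Δ : BNData chevD4 F) :
    (dbarHom hD Δ).ker = (invD4 F).ker := by
  ext a
  rw [MonoidHom.mem_ker, MonoidHom.mem_ker, dbarHom_apply]
  constructor
  · intro h
    obtain ⟨⟨u, hu⟩, ⟨v, hv⟩⟩ := sq_of_inner_D4 hD Δ a h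
    apply Prod.ext
    · exact (mk_eq_one_iff_sq _).2 ⟨u, hu⟩
    · exact (mk_eq_one_iff_sq _).2 ⟨v, hv⟩
  · intro h
    have h1 : (QuotientGroup.mk (a 0 * a 2) : Fˣ ⧸ (powMonoidHom 2 : Fˣ →* Fˣ).range) = 1 :=
      congrArg Prod.fst h
    have h2 : (QuotientGroup.mk (a 0 * a 3) : Fˣ ⧸ (powMonoidHom 2 : Fˣ →* Fˣ).range) = 1 :=
      congrArg Prod.snd h
    obtain ⟨u, hu⟩ := (mk_eq_one_iff_sq _).1 h1
    obtain ⟨v, hv⟩ := (mk_eq_one_iff_sq _).1 h2
    exact outMk_diagA_eq_one_D4 hD Δ a u v hu hv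

/-- the number of classes of diagonal automorphisms of the Chevalley group of type `D₄` -/
theorem card_range_dbarHom_D4 [Finite F] (hD : IsTabulated chevD4) (Δ : BNData chevD4 F) :
    Nat.card (dbarHom hD Δ).range = (Nat.gcd 2 (Nat.card F - 1)) ^ 2 := by
  have e1 : (dbarHom hD Δ).range ≃* (ℕ → Fˣ) ⧸ (dbarHom hD Δ).ker :=
    (QuotientGroup.quotientKerEquivRange _).symm
  have e2 : (ℕ → Fˣ) ⧸ (dbarHom hD Δ).ker ≃* (ℕ → Fˣ) ⧸ (invD4 F).ker :=
    QuotientGroup.quotientMulEquivOfEq (ker_dbarHom_D4 hD Δ)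
  have e3 := QuotientGroup.quotientKerEquivOfSurjective (invD4 F) invD4_surjective
  rw [Nat.card_congr (e1.trans (e2.trans e3)).toEquiv, Nat.card_prod, ← sq]
  congr 1
  have : Nat.card (Fˣ ⧸ (powMonoidHom 2 : Fˣ →* Fˣ).range) =
      (powMonoidHom 2 : Fˣ →* Fˣ).range.index := rfl
  rw [this, IsCyclic.index_powMonoidHom_range, Nat.card_units, Nat.gcd_comm]

end Cfsg.Agent.Helper2.Aut
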