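import Mathlib
import Cfsg.Agent.Helper2.Aut.OutG

set_option autoImplicit false
set_option linter.unusedSectionVars false
set_option linter.unusedSimpArgs false
set_option linter.unusedVariables false

/-! Outer automorphism groups of Chevalley groups, part H: the types without diagram symmetry. -/

namespace Cfsg.Agent.Helper2.Aut

open Cfsg.Lie Cfsg.Agent.Helper6 Cfsg.Agent.Helper2.BN Cfsg.Agent.Helper2.Levi

variable {D : ChevalleyDatum} {F : Type*} [Field F]

/-- without a flip, only the identity is a symmetry -/
theorem symReal_trivial (hD : IsOutType D) (Δ : BNData D F) (hfl : flipL D = [])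
    (π : Equiv.Perm (Fin D.rank)) (hπ : SymReal Δ π) : π = 1 := by
  rcases sym_cases' hD hπ.1 with h | h
  · exact h
  · apply perm_eq_one_of_val
    intro i
    rw [h i]
    unfold flE
    rw [hfl]
    rfl

/-- the order of `Out` for the types without diagram symmetry -/
theorem card_out_rigid {F : Type*} [Field F] [Fintype F] (p f : ℕ) [Fact p.Prime] [CharP F p]
    (hF : Fintype.card F = p ^ f) (hD : IsOutType D) (hfl : flipL D = []) :
    Nat.card (Cfsg.Out ↥(D.group F)) = Nat.gcd (p ^ f - 1) (dN D) * f := by
  have Δ := bnData_of_tabulated F hD.tab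
  rw [card_out hD Δ, card_symReal_eq_one Δ (symReal_trivial hD Δ hfl), card_ringAut p f hF,
    Nat.card_eq_fintype_card, hF, one_mul]

end Cfsg.Agent.Helper2.Aut
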